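import Cfsg.Agent.Lib.ThompsonSeven.Tight
import Cfsg.Agent.Lib.AbelianOffender
import Mathlib.GroupTheory.Nilpotent

/-!
An abelian subgroup of largest order, chosen to meet a normal subgroup of class two as much as possible.
-/

set_option autoImplicit false
set_option linter.unusedSectionVars false

namespace CfsgLib.ThompsonSeven

open CfsgLib
open scoped commutatorElement

variable {G : Type*} [Group G]

/-- Iterated commutators with the entries of a list. -/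
def ad : List G → G → G
  | [], u => u
  | a :: l, u => ⁅a, ad l u⁆

@[simp] theorem ad_nil (u : G) : ad [] u = u := rfl

@[simp] theorem ad_cons (a : G) (l : List G) (u : G) : ad (a :: l) u = ⁅a, ad l u⁆ := rfl

theorem ad_append (l m : List G) (u : G) : ad (l ++ m) u = ad l (ad m u) := by
  induction l with
  | nil => rfl
  | cons a l ih => simp [ih]

theorem ad_one : ∀ l : List G, ad l (1 : G) = 1
  | [] => rfl
  | a :: l => by rw [ad_cons, ad_one l, commutatorElement_one_right]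

theorem ad_mem {N : Subgroup G} [hN : N.Normal] {u : G} (hu : u ∈ N) : ∀ l : List G, ad l u ∈ N
  | [] => hu
  | a :: l => by
    rw [ad_cons, commutatorElement_def]
    exact N.mul_mem (hN.conj_mem _ (ad_mem hu l) a) (N.inv_mem (ad_mem hu l))

theorem commutator_mem_normal {N : Subgroup G} [hN : N.Normal] {u : G} (a : G) (hu : u ∈ N) : ⁅a, u⁆ ∈ N := by
  rw [commutatorElement_def]
  exact N.mul_mem (hN.conj_mem _ hu a) (N.inv_mem hu)

/-- Two steps are enough to kill, whatever the list. -/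
theorem ad_eq_one_of_two {A : Subgroup G} {q : G} (h : ∀ a ∈ A, ∀ b ∈ A, ⁅a, ⁅b, q⁆⁆ = 1) :
    ∀ l : List G, (∀ a ∈ l, a ∈ A) → 2 ≤ l.length → ad l q = 1
  | [], _, hn => by simp at hn
  | [a], _, hn => by simp at hn
  | [a, b], hl, _ => h a (hl a (by simp)) b (hl b (by simp))
  | a :: b :: c :: l, hl, _ => by
    rw [ad_cons, ad_eq_one_of_two h (b :: c :: l) (fun x hx => hl x (List.mem_cons_of_mem _ hx)) (by simp),
      commutatorElement_one_right]

/-- Iterated commutators in a nilpotent subgroup vanish. -/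
theorem exists_len [Finite G] {p : ℕ} [Fact p.Prime] {P : Subgroup G} (hP : IsPGroup p P) :
    ∃ L : ℕ, ∀ l : List G, (∀ a ∈ l, a ∈ P) → L ≤ l.length → ∀ u ∈ P, ad l u = 1 := by
  obtain ⟨n, hn⟩ := (Subgroup.isNilpotent_iff_lowerCentralSeries P).1 hP.isNilpotent
  have hmem : ∀ l : List G, (∀ a ∈ l, a ∈ P) → ∀ u ∈ P, ad l u ∈ P.lowerCentralSeries l.length := by
    intro l
    induction l with
    | nil => exact fun _ u hu => hu
    | cons a l ih =>
      intro hl u hu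
      rw [List.length_cons, Subgroup.lowerCentralSeries_succ, Subgroup.commutator_comm, ad_cons]
      exact Subgroup.commutator_mem_commutator (hl a (List.mem_cons_self ..))
        (ih (fun x hx => hl x (List.mem_cons_of_mem _ hx)) u hu)
  refine ⟨n, fun l hl hlen u hu => ?_⟩
  have h1 := hmem (l.drop (l.length - n)) (fun a ha => hl a (List.mem_of_mem_drop ha)) u hu
  rw [List.length_drop, show l.length - (l.length - n) = n by omega, hn, Subgroup.mem_bot] at h1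
  rw [← List.take_append_drop (l.length - n) l, ad_append, h1, ad_one]

/-- The setting. -/
structure Sit (p : ℕ) (P O C Z A : Subgroup G) : Prop where
  pGroup : IsPGroup p P
  mem : A ∈ ZJ.goodMax 0 P
  oLe : O ≤ P
  cLe : C ≤ O
  oNormal : O.Normal
  cNormal : C.Normal
  zNormal : Z.Normal
  stab : ⁅O, C⁆ ≤ Z
  zLe : Z ≤ C
  zCen : ∀ z ∈ Z, ∀ c ∈ C, z * c = c * z
  notLe : ¬ A ≤ O
  max : ∀ B ∈ ZJ.goodMax 0 P, ¬ B ≤ O → Nat.card ↥(B ⊓ Z) ≤ Nat.card ↥(A ⊓ Z) ∧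
    (Nat.card ↥(B ⊓ Z) = Nat.card ↥(A ⊓ Z) → Nat.card ↥(B ⊓ C) ≤ Nat.card ↥(A ⊓ C))

/-- The part of `Z` fixed by `A ∩ O`. -/
def C1 (O Z A : Subgroup G) : Subgroup G := Z ⊓ Subgroup.centralizer ((A ⊓ O : Subgroup G) : Set G)

variable {p : ℕ} {P O C Z A : Subgroup G}

namespace Sit

theorem zP (h : Sit p P O C Z A) : Z ≤ P := h.zLe.trans (h.cLe.trans h.oLe)

theorem cP (h : Sit p P O C Z A) : C ≤ P := h.cLe.trans h.oLe

theorem zAb (h : Sit p P O C Z A) : IsAb Z := fun x hx y hy => h.zCen x hx y (h.zLe hy)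

theorem ab (h : Sit p P O C Z A) [Finite G] {a b : G} (ha : a ∈ A) (hb : b ∈ A) : a * b = b * a :=
  isAb_of_mem h.mem a ha b hb

theorem ad_mem_C (h : Sit p P O C Z A) {u : G} (hu : u ∈ C) (l : List G) : ad l u ∈ C := by
  haveI := h.cNormal
  exact ad_mem hu l

theorem ad_mem_Z (h : Sit p P O C Z A) {u : G} (hu : u ∈ Z) (l : List G) : ad l u ∈ Z := by
  haveI := h.zNormal
  exact ad_mem hu l

theorem psiC (h : Sit p P O C Z A) {u : G} (a : G) (hu : u ∈ C) : ⁅a, u⁆ ∈ C := by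
  haveI := h.cNormal
  exact commutator_mem_normal a hu

theorem psiZ (h : Sit p P O C Z A) {u : G} (a : G) (hu : u ∈ Z) : ⁅a, u⁆ ∈ Z := by
  haveI := h.zNormal
  exact commutator_mem_normal a hu

theorem phiZ (h : Sit p P O C Z A) {y u : G} (hy : y ∈ O) (hu : u ∈ C) : ⁅y, u⁆ ∈ Z :=
  h.stab (Subgroup.commutator_mem_commutator hy hu)

/-- The action of `O` is given by homomorphisms. -/
theorem phi_mul (h : Sit p P O C Z A) {y u v : G} (hy : y ∈ O) (hu : u ∈ C) (hv : v ∈ C) :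
    ⁅y, u * v⁆ = ⁅y, u⁆ * ⁅y, v⁆ := by
  calc ⁅y, u * v⁆ = ⁅y, u⁆ * (u * ⁅y, v⁆ * u⁻¹) := by simp only [commutatorElement_def]; group
    _ = _ := by rw [← h.zCen _ (h.phiZ hy hv) u hu, mul_inv_cancel_right]

theorem phi_inv (h : Sit p P O C Z A) {y u : G} (hy : y ∈ O) (hu : u ∈ C) : ⁅y, u⁻¹⁆ = ⁅y, u⁆⁻¹ := by
  refine eq_inv_of_mul_eq_one_left ?_
  rw [← h.phi_mul hy (C.inv_mem hu) hu, inv_mul_cancel, commutatorElement_one_right]

/-- The action on `Z` is given by homomorphisms. -/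
theorem psi_mul (h : Sit p P O C Z A) {u z : G} (a : G) (hu : u ∈ C) (hz : z ∈ Z) :
    ⁅a, u * z⁆ = ⁅a, u⁆ * ⁅a, z⁆ := by
  calc ⁅a, u * z⁆ = ⁅a, u⁆ * (u * ⁅a, z⁆ * u⁻¹) := by simp only [commutatorElement_def]; group
    _ = _ := by rw [← h.zCen _ (h.psiZ a hz) u hu, mul_inv_cancel_right]

theorem psi_inv (h : Sit p P O C Z A) {z : G} (a : G) (hz : z ∈ Z) : ⁅a, z⁻¹⁆ = ⁅a, z⁆⁻¹ := by
  refine eq_inv_of_mul_eq_one_left ?_
  rw [← h.psi_mul a (h.zLe (Z.inv_mem hz)) hz, inv_mul_cancel, commutatorElement_one_right]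

/-- The operators commute on `Z`. -/
theorem psi_comm [Finite G] (h : Sit p P O C Z A) {a b u : G} (ha : a ∈ A) (hb : b ∈ A) (hu : u ∈ Z) :
    ⁅a, ⁅b, u⁆⁆ = ⁅b, ⁅a, u⁆⁆ := by
  have e : ∀ a b : G, ⁅a * b, u⁆ = ⁅a, ⁅b, u⁆⁆ * (⁅b, u⁆ * ⁅a, u⁆) := fun a b => by
    simp only [commutatorElement_def]; group
  have h1 := e a b
  rw [h.ab ha hb, e b a, h.zAb _ (h.psiZ a hu) _ (h.psiZ b hu)] at h1
  exact (mul_right_cancel h1).symm

theorem ad_psi_comm [Finite G] (h : Sit p P O C Z A) {c u : G} (hc : c ∈ A) (hu : u ∈ Z) :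
    ∀ l : List G, (∀ a ∈ l, a ∈ A) → ⁅c, ad l u⁆ = ad l ⁅c, u⁆
  | [], _ => rfl
  | a :: l, hl => by
    rw [ad_cons, h.psi_comm hc (hl a (List.mem_cons_self ..)) (h.ad_mem_Z hu l),
      h.ad_psi_comm hc hu l (fun x hx => hl x (List.mem_cons_of_mem _ hx)), ← ad_cons]

/-- The action of `A ∩ O` commutes with the operators. -/
theorem phi_psi [Finite G] (h : Sit p P O C Z A) {y a u : G} (hy : y ∈ A) (hyO : y ∈ O) (ha : a ∈ A)
    (hu : u ∈ C) : ⁅y, ⁅a, u⁆⁆ = ⁅a, ⁅y, u⁆⁆ := by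
  haveI := h.cNormal
  have hau : a * u * a⁻¹ ∈ C := h.cNormal.conj_mem u hu a
  have hya : a⁻¹ * y * a = y := by rw [mul_assoc, h.ab hy ha, inv_mul_cancel_left]
  calc ⁅y, ⁅a, u⁆⁆ = ⁅y, a * u * a⁻¹ * u⁻¹⁆ := by simp only [commutatorElement_def]
    _ = ⁅y, a * u * a⁻¹⁆ * ⁅y, u⁆⁻¹ := by rw [h.phi_mul hyO hau (C.inv_mem hu), h.phi_inv hyO hu]
    _ = a * ⁅a⁻¹ * y * a, u⁆ * a⁻¹ * ⁅y, u⁆⁻¹ := by simp only [commutatorElement_def]; group
    _ = _ := by rw [hya]; simp only [commutatorElement_def]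

theorem phi_ad [Finite G] (h : Sit p P O C Z A) {y u : G} (hy : y ∈ A) (hyO : y ∈ O) (hu : u ∈ C) :
    ∀ l : List G, (∀ a ∈ l, a ∈ A) → ⁅y, ad l u⁆ = ad l ⁅y, u⁆
  | [], _ => rfl
  | a :: l, hl => by
    rw [ad_cons, h.phi_psi hy hyO (hl a (List.mem_cons_self ..)) (h.ad_mem_C hu l),
      h.phi_ad hy hyO hu l (fun x hx => hl x (List.mem_cons_of_mem _ hx)), ← ad_cons]

theorem c1_le (_h : Sit p P O C Z A) : C1 O Z A ≤ Z := inf_le_left

theorem c1_fix (_h : Sit p P O C Z A) {y c : G} (hy : y ∈ A) (hyO : y ∈ O) (hc : c ∈ C1 O Z A) :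
    y * c = c * y :=
  hc.2 y ⟨hy, hyO⟩

theorem c1_conj [Finite G] (h : Sit p P O C Z A) {a c : G} (ha : a ∈ A) (hc : c ∈ C1 O Z A) :
    a * c * a⁻¹ ∈ C1 O Z A := by
  refine ⟨h.zNormal.conj_mem c hc.1 a, fun y hy => ?_⟩
  have hay : y * a = a * y := h.ab hy.1 ha
  calc y * (a * c * a⁻¹) = (y * a) * c * a⁻¹ := by group
    _ = a * (y * c) * a⁻¹ := by rw [hay]; group
    _ = a * (c * y) * a⁻¹ := by rw [hc.2 y hy]
    _ = a * c * (y * a⁻¹) := by group
    _ = a * c * (a⁻¹ * y) := by rw [h.ab hy.1 (A.inv_mem ha)]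
    _ = _ := by group

theorem c1_psi [Finite G] (h : Sit p P O C Z A) {a c : G} (ha : a ∈ A) (hc : c ∈ C1 O Z A) :
    ⁅a, c⁆ ∈ C1 O Z A := by
  rw [commutatorElement_def]
  exact mul_mem (h.c1_conj ha hc) (inv_mem hc)

theorem com_le_Z (h : Sit p P O C Z A) {x : G} (hx : x ∈ Z) : com A x ≤ Z := com_le fun a _ => h.psiZ a hx

/-- A tight subgroup of `C` outside `A` has its centralizer in `A` inside `O`. -/
theorem cA_le [Finite G] (h : Sit p P O C Z A) {M : Subgroup G} (hMC : M ≤ C) (ht : Tight A M)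
    (hc : ∀ y ∈ A, y ∈ C → ∀ m ∈ M, y * m = m * y) (hne : ¬ M ≤ A) : cA A M ≤ O := by
  intro k hk
  by_contra hkO
  set B := cA A M ⊔ M with hB
  have hab : IsAb B := isAb_sup ((isAb_of_mem h.mem).mono inf_le_left) ht.1 fun x hx m hm => (hx.2 m hm).symm
  have hBP : B ≤ P := sup_le (inf_le_left.trans h.mem.1) (hMC.trans h.cP)
  have hcard : Nat.card A ≤ Nat.card B := by
    refine Nat.le_of_mul_le_mul_right (ht.2.trans ?_) Nat.card_pos
    rw [mul_comm]
    refine (Products.card_mul_card_le _ _).trans (Nat.mul_le_mul_left _ (Subgroup.card_le_of_le ?_))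
    exact le_inf inf_le_right (inf_le_left.trans inf_le_left)
  have hBmem : B ∈ ZJ.goodMax 0 P := ⟨hBP, ⟨hab, fun x _ => pow_zero x⟩,
    fun B' h1 h2 => (h.mem.2.2 B' h1 h2).trans hcard⟩
  have hBO : ¬ B ≤ O := fun hle => hkO (hle (Subgroup.mem_sup_left hk))
  obtain ⟨h1, h2⟩ := h.max B hBmem hBO
  have hAC : A ⊓ C ≤ cA A M := fun y hy => ⟨hy.1, fun m hm => (hc y hy.1 hy.2 m hm).symm⟩
  have hZle : A ⊓ Z ≤ B ⊓ Z :=
    le_inf (((inf_le_inf_left A h.zLe).trans hAC).trans le_sup_left) inf_le_right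
  have h3 := h2 (le_antisymm h1 (Subgroup.card_le_of_le hZle))
  have hCle : A ⊓ C ≤ B ⊓ C := le_inf (hAC.trans le_sup_left) inf_le_right
  refine hne fun m hm => ?_
  have h4 : m ∈ B ⊓ C := ⟨Subgroup.mem_sup_right hm, hMC hm⟩
  rw [← Subgroup.eq_of_le_of_card_ge hCle h3] at h4
  exact h4.1

theorem cA_le_of_le_Z [Finite G] (h : Sit p P O C Z A) {M : Subgroup G} (hMZ : M ≤ Z) (ht : Tight A M)
    (hne : ¬ M ≤ A) : cA A M ≤ O :=
  h.cA_le (hMZ.trans h.zLe) ht (fun y _ hy m hm => (h.zCen m (hMZ hm) y hy).symm) hne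

variable [Fact p.Prime] [Finite G]

/-- The operators map the fixed part of `Z` into `A`. -/
theorem c1_mem (h : Sit p P O C Z A) {a x : G} (ha : a ∈ A) (hx : x ∈ C1 O Z A) : ⁅a, x⁆ ∈ A := by
  set M := com A x with hM
  have hMC1 : M ≤ C1 O Z A := com_le fun b hb => h.c1_psi hb hx
  have hMZ : M ≤ Z := hMC1.trans h.c1_le
  suffices hMA : M ≤ A from hMA (mem_com ha)
  by_contra hne
  have ht : Tight A M := tight_com h.mem (h.zAb.mono hMZ)
  have hcAO := h.cA_le_of_le_Z hMZ ht hne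
  have hcard : Nat.card (cA A M) ≤ Nat.card ↥(A ⊓ O) := Subgroup.card_le_of_le (le_inf inf_le_left hcAO)
  have hab : IsAb (C1 O Z A) := h.zAb.mono h.c1_le
  have hbound : Nat.card ↥(C1 O Z A) * Nat.card ↥(A ⊓ O) ≤ Nat.card A * Nat.card ↥(C1 O Z A ⊓ A) :=
    card_mul_le h.mem hab (h.c1_le.trans h.zP) inf_le_left fun k hk c hc => hc.2 k hk
  have hsup : M ⊔ (C1 O Z A ⊓ A) = C1 O Z A := by
    refine sup_eq_of_card_le hMC1 inf_le_left
      (Subgroup.card_le_of_le (le_inf inf_le_left (inf_le_right.trans inf_le_right) :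
        M ⊓ (C1 O Z A ⊓ A) ≤ M ⊓ A)) ?_
    refine Nat.le_of_mul_le_mul_right (c := Nat.card ↥(A ⊓ O)) ?_ Nat.card_pos
    calc Nat.card ↥(C1 O Z A) * Nat.card ↥(M ⊓ A) * Nat.card ↥(A ⊓ O)
        = Nat.card ↥(C1 O Z A) * Nat.card ↥(A ⊓ O) * Nat.card ↥(M ⊓ A) := by ring
      _ ≤ Nat.card A * Nat.card ↥(C1 O Z A ⊓ A) * Nat.card ↥(M ⊓ A) := Nat.mul_le_mul_right _ hbound
      _ = Nat.card A * Nat.card ↥(M ⊓ A) * Nat.card ↥(C1 O Z A ⊓ A) := by ring
      _ ≤ Nat.card M * Nat.card ↥(A ⊓ O) * Nat.card ↥(C1 O Z A ⊓ A) :=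
        Nat.mul_le_mul_right _ (ht.2.trans (Nat.mul_le_mul_left _ hcard))
      _ = _ := by ring
  obtain ⟨m, hm, c, hc, hxe⟩ := exists_mul_of_mem_sup hab hMC1 inf_le_left (hsup.symm ▸ hx : x ∈ M ⊔ _)
  have hle : M ≤ ⁅A, M⁆ := com_le fun b hb => by
    rw [hxe, h.psi_mul b (h.zLe (hMZ hm)) (h.c1_le hc.1),
      commutatorElement_eq_one_iff_mul_comm.2 (h.ab hb hc.2), mul_one]
    exact Subgroup.commutator_mem_commutator hb hm
  have hAM : A ≤ Subgroup.normalizer (M : Set G) := fun b hb =>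
    Local.mem_normalizer_of_map_conj_eq (Subgroup.eq_of_le_of_card_ge
      (Local.map_conj_le fun n hn => conj_mem_com hb hn)
      (Subgroup.card_map_of_injective (MulAut.conj b).injective).ge)
  refine hne ((CfsgLib.AbelianOffender.eq_bot_of_le_commutator (h.pGroup.to_le h.mem.1)
    (h.pGroup.to_le (hMZ.trans h.zP)) hAM le_rfl hle).le.trans bot_le)

/-- Two operators kill the fixed part of `Z`. -/
theorem c1_two (h : Sit p P O C Z A) {a b x : G} (ha : a ∈ A) (hb : b ∈ A) (hx : x ∈ C1 O Z A) :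
    ⁅a, ⁅b, x⁆⁆ = 1 :=
  commutatorElement_eq_one_iff_mul_comm.2 (h.ab ha (h.c1_mem hb hx))

/-- On a chief factor inside `Z` three operators act trivially. -/
theorem z_degree (h : Sit p P O C Z A) {V : Subgroup G} [V.Normal] {x : G} (hx : x ∈ Z)
    (hV : ∀ y ∈ A, y ∈ O → ⁅y, x⁆ ∈ V) {a b c : G} (ha : a ∈ A) (hb : b ∈ A) (hc : c ∈ A) :
    ⁅a, ⁅b, ⁅c, x⁆⁆⁆ ∈ V := by
  classical
  obtain ⟨L0, hL0⟩ := exists_len h.pGroup
  have hex : ∃ L, ∀ l : List G, (∀ y ∈ l, y ∈ A) → l.length = L → ad l x = 1 :=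
    ⟨L0, fun l hl e => hL0 l (fun y hy => h.mem.1 (hl y hy)) e.ge x (h.zP hx)⟩
  set L := Nat.find hex with hLdef
  have hL : ∀ l : List G, (∀ y ∈ l, y ∈ A) → l.length = L → ad l x = 1 := Nat.find_spec hex
  by_cases hsmall : L ≤ 3
  · have h1 : ad [a, b, c] x = 1 := by
      have e : ([a, b, c] : List G) = [a, b, c].take (3 - L) ++ [a, b, c].drop (3 - L) :=
        (List.take_append_drop _ _).symm
      rw [e, ad_append, hL _ (fun y hy => by
        have := List.mem_of_mem_drop hy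
        simp only [List.mem_cons, List.not_mem_nil, or_false] at this
        rcases this with rfl | rfl | rfl <;> assumption) (by simp; omega), ad_one]
    simp only [ad_cons, ad_nil] at h1
    rw [h1]
    exact V.one_mem
  push Not at hsmall
  obtain ⟨l, hl, hlen, hne⟩ : ∃ l : List G, (∀ y ∈ l, y ∈ A) ∧ l.length = L - 1 ∧ ad l x ≠ 1 := by
    have := Nat.find_min hex (m := L - 1) (by omega)
    push Not at this
    exact this
  obtain ⟨b', a', l2, rfl⟩ : ∃ b' a' l2, l = b' :: a' :: l2 := by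
    match l, hlen with
    | [], h0 => simp at h0; omega
    | [_], h0 => simp at h0; omega
    | b' :: a' :: l2, _ => exact ⟨b', a', l2, rfl⟩
  have hlen2 : l2.length = L - 3 := by simp at hlen; omega
  have hl2 : ∀ y ∈ l2, y ∈ A := fun y hy => hl y (by simp [hy])
  obtain ⟨l3, a2, rfl⟩ : ∃ l3 a2, l2 = l3 ++ [a2] := by
    rcases List.eq_nil_or_concat l2 with e | ⟨l3, a2, e⟩
    · rw [e] at hlen2; simp at hlen2; omega
    · exact ⟨l3, a2, by simpa [List.concat_eq_append] using e⟩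
  have hl3 : ∀ y ∈ l3, y ∈ A := fun y hy => hl2 y (by simp [hy])
  have ha2 : a2 ∈ A := hl2 a2 (by simp)
  set e := ad (l3 ++ [a2]) x with he
  have heZ : e ∈ Z := h.ad_mem_Z hx _
  have hMe : com A e ≤ Z := h.com_le_Z heZ
  have ht : Tight A (com A e) := tight_com h.mem (h.zAb.mono hMe)
  have hnA : ¬ com A e ≤ A := fun hle => hne (by
    rw [ad_cons, ad_cons, ← he]
    exact commutatorElement_eq_one_iff_mul_comm.2 (h.ab (hl b' (by simp)) (hle (mem_com (hl a' (by simp))))))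
  have hcA := h.cA_le_of_le_Z hMe ht hnA
  -- write the double commutator as a simple one
  have hMx : com A x ≤ Z := h.com_le_Z hx
  have hm : ⁅b, ⁅c, x⁆⁆ ∈ com A x := commutator_mem_com hb (mem_com hc)
  obtain ⟨c', hc', k, hk, hmk⟩ := exists_commutator_mul h.mem (hMx.trans h.zP) (h.zAb.mono hMx) hm
  have hkZ : k ∈ Z := by
    have : k = ⁅c', x⁆⁻¹ * ⁅b, ⁅c, x⁆⁆ := by rw [hmk, inv_mul_cancel_left]
    rw [this]
    exact Z.mul_mem (Z.inv_mem (h.psiZ _ hx)) (h.psiZ _ (h.psiZ _ hx))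
  have hψ : ∀ a ∈ A, ⁅a, ⁅b, ⁅c, x⁆⁆⁆ = ⁅a, ⁅c', x⁆⁆ := fun a ha => by
    rw [hmk, h.psi_mul a (h.zLe (h.psiZ _ hx)) hkZ,
      commutatorElement_eq_one_iff_mul_comm.2 (h.ab ha hk), mul_one]
  have hkill : c' ∈ cA A (com A e) := by
    refine ⟨hc', fun m hm => ?_⟩
    have : com A e ≤ Subgroup.centralizer {c'} := com_le fun a1 ha1 => by
      rw [Subgroup.mem_centralizer_singleton_iff, eq_comm, ← commutatorElement_eq_one_iff_mul_comm,
        he, ad_append, ad_cons, ad_nil, h.psi_comm hc' ha1 (h.ad_mem_Z (h.psiZ _ hx) _),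
        h.ad_psi_comm hc' (h.psiZ _ hx) _ hl3, h.psi_comm hc' ha2 hx, ← hψ a2 ha2]
      have h1 := hL (a1 :: l3 ++ [a2, b, c]) (by
        simp only [List.cons_append, List.mem_cons, List.mem_append, List.not_mem_nil, or_false]
        rintro y (rfl | hy | rfl | rfl | rfl)
        exacts [ha1, hl3 y hy, ha2, hb, hc]) (by simp at hlen2 ⊢; omega)
      rw [ad_append] at h1
      simpa using h1
    exact Subgroup.mem_centralizer_singleton_iff.1 (this hm)
  rw [hψ a ha]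
  exact commutator_mem_normal a (hV c' hc' (hcA hkill))

end Sit

end CfsgLib.ThompsonSeven
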