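import Cfsg.Agent.Lib.ThompsonSeven.Degree
import Cfsg.Agent.Lib.TransferControl.Apply
import Cfsg.Agent.Lib.Fusion.CenterJ
import Cfsg.Agent.Lib.Fusion.Transfer.Tate

/-!
For `p ≥ 7` the normalizer of the Thompson subgroup of abelian subgroups of largest order controls
transfer, and the factor groups by `O^p` agree.
-/

set_option autoImplicit false
set_option linter.unusedSectionVars false

namespace CfsgLib.ThompsonSeven

open CfsgLib Cfsg CfsgLib.StrongFusion CfsgLib.WeakClosed CfsgLib.TransferControl CfsgLib.KInf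
open scoped commutatorElement Pointwise

universe u

variable {X : Type u} [Group X] [Finite X] {p : ℕ} [Fact p.Prime]

/-- If the Thompson subgroup is not normal, an element outside the core has degree at most six below it. -/
theorem exists_good_of_J (hp7 : 7 ≤ p) (S : Sylow p X)
    (hJ : ¬ (inducedFunctor FusionSystem.jFunctor (S : Subgroup X)).Normal) :
    ∃ g ∈ (S : Subgroup X), g ∉ pCore p X ∧ Good p (pCore p X) g := by
  classical
  set O := pCore p X with hO
  have hOS : O ≤ (S : Subgroup X) := pCore_le_sylow S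
  have hJ' : ¬ (ZJ.thompsonJ 0 (S : Subgroup X)).Normal := fun h => hJ (by
    rw [ZJ.thompsonJ_zero] at h
    exact h)
  -- some largest abelian subgroup leaves the core
  have hout : ∃ A ∈ ZJ.goodMax 0 (S : Subgroup X), ¬ A ≤ O := by
    by_contra hcon
    push Not at hcon
    refine hJ' ?_
    have heq : ZJ.goodMax 0 (S : Subgroup X) = ZJ.goodMax 0 O := by
      obtain ⟨A0, hA0⟩ := ZJ.goodMax_nonempty 0 (S : Subgroup X)
      ext A
      constructor
      · exact fun hA => ⟨hcon A hA, hA.2.1, fun B hB hBg => hA.2.2 B (hB.trans hOS) hBg⟩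
      · rintro ⟨hA, hAg, hAmax⟩
        exact ⟨hA.trans hOS, hAg, fun B hB hBg =>
          (hA0.2.2 B hB hBg).trans (hAmax A0 (hcon A0 hA0) hA0.2.1)⟩
    rw [ZJ.thompsonJ, heq, ← ZJ.thompsonJ]
    refine ⟨fun x hx g => ?_⟩
    have h1 : O.map (MulAut.conj g).toMonoidHom = O :=
      Subgroup.Normal.map_conj_eq O g
    have h2 := ZJ.thompsonJ_map 0 (f := (MulAut.conj g).toMonoidHom) (MulAut.conj g).injective O
    rw [h1] at h2
    rw [h2]
    exact ⟨x, hx, rfl⟩
  obtain ⟨C, hC, -, -, hcen⟩ := exists_crit (G := X) (p := p)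
  haveI := hC.normal
  set Z := C ⊓ Subgroup.centralizer (C : Set X)
  haveI : Z.Normal := inferInstanceAs (C ⊓ Subgroup.centralizer (C : Set X)).Normal
  -- choose `A`
  obtain ⟨A0, hA0⟩ := hout
  obtain ⟨A, ⟨hA, hAO⟩, hmax⟩ := Set.exists_max_image {A | A ∈ ZJ.goodMax 0 (S : Subgroup X) ∧ ¬ A ≤ O}
    (fun A => Nat.card ↥(A ⊓ Z) * (Nat.card X + 1) + Nat.card ↥(A ⊓ C)) (Set.toFinite _) ⟨A0, hA0⟩
  have hsit : Sit p (S : Subgroup X) O C Z A :=
    { pGroup := S.2
      mem := hA
      oLe := hOS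
      cLe := hC.le
      oNormal := inferInstance
      cNormal := inferInstance
      zNormal := inferInstance
      stab := hC.three
      zLe := inf_le_left
      zCen := fun z hz c hc => (hz.2 c hc).symm
      notLe := hAO
      max := fun B hB hBO => by
        have h := hmax B ⟨hB, hBO⟩
        have h1 : ∀ D : Subgroup X, Nat.card D < Nat.card X + 1 := fun D =>
          Nat.lt_succ_of_le (Nat.le_of_dvd Nat.card_pos D.card_subgroup_dvd_card)
        refine ⟨?_, fun he => ?_⟩
        · by_contra hlt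
          push Not at hlt
          have h2 := Nat.mul_le_mul_right (Nat.card X + 1) hlt
          rw [Nat.succ_mul] at h2
          have := h1 (A ⊓ C)
          omega
        · simp only [he] at h
          omega }
  obtain ⟨g, hgA, hgO⟩ := SetLike.not_le_iff_exists.1 hAO
  refine ⟨g, hA.1 hgA, hgO, fun U V hUV hU u hu => ?_⟩
  have hbelow : ∀ {U V : Subgroup X}, IsChiefFactor U V → U ≤ O → ∀ x ∈ U, ∀ y ∈ O, ⁅y, x⁆ ∈ V :=
    fun {U V} hUV hUO x hx y hy => by
      rw [← commutatorElement_inv x y]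
      exact inv_mem (commutator_le_of_chief (isPGroup_pCore p) hUV hUO (Subgroup.commutator_mem_commutator hx hy))
  have hab : ∀ {U V : Subgroup X}, IsChiefFactor U V → U ≤ O → ⁅U, U⁆ ≤ V := fun {U V} hUV hUO =>
    (Subgroup.commutator_mono le_rfl hUO).trans (commutator_le_of_chief (isPGroup_pCore p) hUV hUO)
  have hZdeg : ∀ {U V : Subgroup X}, IsChiefFactor U V → U ≤ O → ∀ x ∈ U, x ∈ Z → dl g 3 x ∈ V :=
    fun {U V} hUV hUO x hx hxZ => by
      haveI := hUV.2.2.1
      exact hsit.z_degree hxZ (fun y _ hy => hbelow hUV hUO x hx y hy) hgA hgA hgA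
  have hCdeg : ∀ x ∈ C, dl g 4 x ∈ Z := fun x hx => hsit.c_degree (by omega) hx hgA hgA hgA hgA
  have hb := degree_bound (P := O) (Q := C) (isPGroup_pCore p) hC.le hC.three hcen (g := g) (i := 4) (j := 3)
    (by norm_num) (by norm_num) ?_ ?_ hUV hU
  · obtain ⟨m, hm⟩ : ∃ m, p - 1 = m + 6 := ⟨p - 7, by omega⟩
    haveI := hUV.2.2.1
    rw [hm, dl_add]
    exact dl_mem g (hb (dl_mem_iterCommutator hu 6)) m
  · intro U V hUV hUC
    have hUO := hUC.trans hC.le
    have hUV' := hUV
    obtain ⟨hlt, hUn, hVn, hch⟩ := hUV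
    haveI := hUn
    haveI := hVn
    refine iterCommutator_le_of_dl (hab hUV' hUO) fun x hx => (QuotientGroup.eq_one_iff _).1 ?_
    rcases hch (U ⊓ Z ⊔ V) (Subgroup.sup_normal _ _) le_sup_right (sup_le inf_le_left hlt.le) with e | e
    · exact (QuotientGroup.eq_one_iff _).2 (e.le (Subgroup.mem_sup_left ⟨dl_mem g hx 4, hCdeg x (hUC hx)⟩))
    · have hx' := e.ge hx
      rw [← SetLike.mem_coe, Subgroup.mul_normal] at hx'
      obtain ⟨a, ha, b, hb, rfl⟩ := hx'
      show QuotientGroup.mk' V (dl g 4 (a * b)) = 1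
      rw [map_dl, map_mul, show QuotientGroup.mk' V b = 1 from (QuotientGroup.eq_one_iff b).2 hb, mul_one,
        ← map_dl, show (4 : ℕ) = 1 + 3 from rfl, dl_add]
      exact (QuotientGroup.eq_one_iff _).2 (dl_mem g (hZdeg hUV' hUO a ha.1 ha.2) 1)
  · intro U V hUV hUZ
    have hUO : U ≤ O := hUZ.trans (inf_le_left.trans hC.le)
    haveI := hUV.2.1
    haveI := hUV.2.2.1
    exact iterCommutator_le_of_dl (hab hUV hUO) fun x hx => hZdeg hUV hUO x hx (hUZ hx)

theorem isCharPFunctor_jFunctor : IsCharPFunctor p FusionSystem.jFunctor.{u} :=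
  ⟨fun Q _ _ => FusionSystem.jFunctor_ne_bot Q, fun Q R _ _ _ _ φ => FusionSystem.jFunctor_map Q R φ⟩

/-- For `p ≥ 7` the Thompson subgroup controls transfer. -/
theorem ok_J (hp7 : 7 ≤ p) : Ok p {FusionSystem.jFunctor} X := by
  have h𝔚 : ∀ W' ∈ ({FusionSystem.jFunctor.{u}} : Set (∀ (Q : Type u) [Group Q], Subgroup Q)),
      IsCharPFunctor p W' := fun W' hW' => by
    rw [Set.mem_singleton_iff] at hW'
    rw [hW']
    exact isCharPFunctor_jFunctor
  refine ok_of_base h𝔚 (derived_of_mem h𝔚 (W := FusionSystem.jFunctor) (Set.mem_singleton _))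
    (base_of_good isCharPFunctor_jFunctor ?_)
  intro Y _ _ _ _ T hn
  exact exists_good_of_J hp7 T hn

/-- Control of transfer gives the isomorphism of the factor groups by `O^p`. -/
theorem nonempty_iso_of_transfer (S : Sylow p X) (M : Subgroup X) (hSM : (S : Subgroup X) ≤ M)
    (h : (S : Subgroup X) ⊓ commutator X ≤ ⁅M, M⁆) [(pResidual p M).Normal] [(pResidual p X).Normal] :
    Nonempty (X ⧸ pResidual p X ≃* M ⧸ pResidual p M) := by
  classical
  set K := pResidual p X with hK
  set R := (pResidual p M).map M.subtype with hR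
  set P := (S : Subgroup X) with hP
  have hRK : R ≤ K := Transfer.map_pResidual_le M.subtype
  have hRn : ∀ g ∈ M, ∀ r ∈ R, g * r * g⁻¹ ∈ R := by
    rintro g hg _ ⟨r, hr, rfl⟩
    exact ⟨⟨g, hg⟩ * r * ⟨g, hg⟩⁻¹, (inferInstance : (pResidual p M).Normal).conj_mem r hr _, rfl⟩
  -- the focal part
  have hfoc : P ⊓ K ≤ P ⊓ commutator X := by
    rw [hP, hK, ← FusionSystem.hyperfocalSubgroup_groupFusionSystem S, FusionSystem.hyperfocal_group_le_iff S]
    intro Q hQ g hg _ x hx
    refine ⟨P.mul_mem (P.inv_mem (hQ hx)) (hQ ((Subgroup.mem_normalizer_iff.1 hg x).1 hx)), ?_⟩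
    rw [show x⁻¹ * (g * x * g⁻¹) = ⁅x⁻¹, g⁆ by simp only [commutatorElement_def]; group]
    exact Subgroup.commutator_mem_commutator (Subgroup.mem_top _) (Subgroup.mem_top _)
  have hPM : ∀ g ∈ M, ∃ s ∈ P, ∃ r ∈ R, g = s * r := by
    intro g hg
    obtain ⟨a, ha, o, ho, e⟩ : (⟨g, hg⟩ : M) ∈ ((P.subgroupOf M : Subgroup M) : Set M) * (pResidual p M : Set M) := by
      rw [← Subgroup.mul_normal]
      rw [show P.subgroupOf M ⊔ pResidual p M = ⊤ from Transfer.sylow_sup_pResidual (S.subtype hSM)]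
      trivial
    exact ⟨a, ha, o, ⟨o, ho, rfl⟩, (congrArg Subtype.val e).symm⟩
  have hder : ⁅M, M⁆ ≤ (⁅P, P⁆ ⊔ R) := by
    rw [Subgroup.commutator_le]
    intro x hx y hy
    obtain ⟨s, hs, r, hr, rfl⟩ := hPM x hx
    obtain ⟨t, ht, q, hq, rfl⟩ := hPM y hy
    have hst : ⁅s, t⁆ ∈ ⁅P, P⁆ ⊔ R := Subgroup.mem_sup_left (Subgroup.commutator_mem_commutator hs ht)
    have e : ⁅s * r, t * q⁆ = (s * ⁅r, t * q⁆ * s⁻¹) * (⁅s, t⁆ * (t * ⁅s, q⁆ * t⁻¹)) := by
      simp only [commutatorElement_def]; group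
    rw [e]
    refine mul_mem (Subgroup.mem_sup_right (hRn s (hSM hs) _ ?_)) (mul_mem hst
      (Subgroup.mem_sup_right (hRn t (hSM ht) _ ?_)))
    · rw [show ⁅r, t * q⁆ = r * ((t * q) * r⁻¹ * (t * q)⁻¹) by simp only [commutatorElement_def]; group]
      exact R.mul_mem hr (hRn _ hy _ (R.inv_mem hr))
    · rw [commutatorElement_def]
      exact R.mul_mem (hRn s (hSM hs) q hq) (R.inv_mem hq)
  -- Tate's theorem
  have hle : P ⊓ K ≤ R := by
    haveI hn : ((P ⊓ R).subgroupOf P).Normal := ⟨fun x hx s => by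
      rw [Subgroup.mem_subgroupOf] at hx ⊢
      exact ⟨P.mul_mem (P.mul_mem s.2 hx.1) (P.inv_mem s.2), hRn s (hSM s.2) _ hx.2⟩⟩
    have hF := FusionSystem.groupFusionSystem_isSaturated S
    have := hF.hyperfocal_le S.2 (M := (P ⊓ R).subgroupOf P) ?_ ?_
    · rw [FusionSystem.hyperfocalSubgroup_groupFusionSystem] at this
      exact fun x hx => (this (x := ⟨x, hx.1⟩) hx).2
    · rw [FusionSystem.hyperfocalSubgroup_groupFusionSystem]
      exact Subgroup.comap_mono (inf_le_inf_left P hRK)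
    · rw [FusionSystem.hyperfocalSubgroup_groupFusionSystem]
      rintro ⟨x, hxP⟩ hx
      have h1 : x ∈ ⁅P, P⁆ ⊔ R := hder (h (hfoc hx))
      have hPn : ∀ g ∈ P, g ∈ Subgroup.normalizer (R : Set X) := fun g hg =>
        Local.mem_normalizer_of_map_conj_eq (Subgroup.eq_of_le_of_card_ge
          (Local.map_conj_le fun r hr => hRn g (hSM hg) r hr)
          (Subgroup.card_map_of_injective (MulAut.conj g).injective).ge)
      obtain ⟨c, hc, r, hr, hcr⟩ : x ∈ ((⁅P, P⁆ : Subgroup X) : Set X) * (R : Set X) := by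
        rw [← Subgroup.coe_mul_of_left_le_normalizer_right _ _
          (fun g hg => hPn g (Subgroup.commutator_le_self P hg))]
        exact h1
      have hcP : c ∈ P := Subgroup.commutator_le_self P hc
      have hrP : r ∈ P := by
        rw [show r = c⁻¹ * x by rw [← hcr, inv_mul_cancel_left]]
        exact P.mul_mem (P.inv_mem hcP) hxP
      have e : (⟨x, hxP⟩ : P) = ⟨c, hcP⟩ * ⟨r, hrP⟩ := Subtype.ext hcr.symm
      rw [e]
      refine Subgroup.mul_mem_sup ?_ ⟨hrP, hr⟩
      rw [← Subgroup.map_subtype_commutator] at hc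
      obtain ⟨c', hc', hce⟩ := hc
      rw [show (⟨c, hcP⟩ : P) = c' from Subtype.ext hce.symm]
      exact CfsgLib.commutator_le_frattini_pGroup S.2 hc'
  -- the isomorphism
  let f : M →* X ⧸ K := (QuotientGroup.mk' K).comp M.subtype
  have hsurj : Function.Surjective f := by
    intro q
    obtain ⟨x, rfl⟩ := QuotientGroup.mk'_surjective K q
    obtain ⟨a, ha, k, hk, rfl⟩ : x ∈ ((P : Set X) * (K : Set X)) := by
      rw [← Subgroup.mul_normal, hP, Transfer.sylow_sup_pResidual]
      trivial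
    refine ⟨⟨a, hSM ha⟩, ?_⟩
    show QuotientGroup.mk' K a = QuotientGroup.mk' K (a * k)
    rw [map_mul, show QuotientGroup.mk' K k = 1 from (QuotientGroup.eq_one_iff k).2 hk, mul_one]
  have hker : f.ker = pResidual p M := by
    ext m
    rw [MonoidHom.mem_ker]
    show QuotientGroup.mk' K (m : X) = 1 ↔ _
    rw [show QuotientGroup.mk' K (m : X) = 1 ↔ (m : X) ∈ K from QuotientGroup.eq_one_iff _]
    constructor
    · intro hm
      obtain ⟨s, hs, r, hr, e⟩ := hPM m m.2
      have hsK : s ∈ K := by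
        rw [show s = (m : X) * r⁻¹ by rw [e, mul_inv_cancel_right]]
        exact K.mul_mem hm (K.inv_mem (hRK hr))
      have : (m : X) ∈ R := e ▸ R.mul_mem (hle ⟨hs, hsK⟩) hr
      obtain ⟨m', hm', e'⟩ := this
      rwa [← Subtype.ext (a1 := m') e']
    · exact fun hm => hRK ⟨m, hm, rfl⟩
  exact ⟨((QuotientGroup.quotientMulEquivOfEq hker.symm).trans
    (QuotientGroup.quotientKerEquivOfSurjective f hsurj)).symm⟩

/-- The factor groups by `O^p` of a group and of the normalizer of the Thompson subgroup. -/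
theorem nonempty_iso_J (hp7 : 7 ≤ p) (S : Sylow p X)
    [(pResidual p X).Normal]
    [(pResidual p ↥(Subgroup.normalizer (thompsonSubgroupAOf (S : Subgroup X) : Set X))).Normal] :
    Nonempty (X ⧸ pResidual p X ≃*
      ↥(Subgroup.normalizer (thompsonSubgroupAOf (S : Subgroup X) : Set X)) ⧸
        pResidual p ↥(Subgroup.normalizer (thompsonSubgroupAOf (S : Subgroup X) : Set X))) := by
  refine nonempty_iso_of_transfer S _
    (Subgroup.le_normalizer.trans (normalizer_le_normalizer_induced (isCharPFunctor_jFunctor (p := p)) S.2)) ?_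
  rw [single_eq (ok_J hp7) S]
  exact inf_le_right

end CfsgLib.ThompsonSeven
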