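import Cfsg.Agent.Lib.ThompsonSeven.Pairing

/-!
An abelian subgroup of largest order acts with degree four on the quotient of a class-two subgroup
by its centre.
-/

set_option autoImplicit false
set_option linter.unusedSectionVars false

namespace CfsgLib.ThompsonSeven

open CfsgLib
open scoped commutatorElement

variable {G : Type*} [Group G] [Finite G] {p : ℕ} [Fact p.Prime] {P O C Z A : Subgroup G}

namespace Sit

/-- An element of `A ∩ O` whose displacement of `v` is killed by two operators fixes what lies deep below `v`. -/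
theorem kill (h : Sit p P O C Z A) {y v : G} (hy : y ∈ A) (hyO : y ∈ O) (hv : v ∈ C)
    (hq : ∀ a ∈ A, ∀ b ∈ A, ⁅a, ⁅b, ⁅y, v⁆⁆⁆ = 1) {l : List G} (hl : ∀ a ∈ l, a ∈ A) (h2 : 2 ≤ l.length) :
    y * ad l v = ad l v * y := by
  rw [← commutatorElement_eq_one_iff_mul_comm, h.phi_ad hy hyO hv l hl]
  exact ad_eq_one_of_two hq l hl h2

/-- The displacement subgroup of `v`, closed under `A`. -/
def M0 (O Z A : Subgroup G) (v : G) : Subgroup G :=
  Subgroup.closure {g | ∃ a ∈ A, ∃ z ∈ A ⊓ O, a * ⁅z, v⁆ * a⁻¹ = g} ⊔ C1 O Z A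

theorem m0_le (h : Sit p P O C Z A) {v : G} (hv : v ∈ C) : M0 O Z A v ≤ Z := by
  refine sup_le ?_ h.c1_le
  rw [Subgroup.closure_le]
  rintro _ ⟨a, _, z, hz, rfl⟩
  exact h.zNormal.conj_mem _ (h.phiZ hz.2 hv) a

omit [Finite G] [Fact p.Prime] in
theorem phi_mem_m0 {v z : G} (hz : z ∈ A ⊓ O) : ⁅z, v⁆ ∈ M0 O Z A v :=
  Subgroup.mem_sup_left (Subgroup.subset_closure ⟨1, A.one_mem, z, hz, by simp⟩)

/-- The symmetry of the displacements. -/
theorem phi_sym (h : Sit p P O C Z A) {x y v : G} (hx : x ∈ A) (hy : y ∈ A) :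
    x * ⁅y, v⁆ * x⁻¹ * ⁅x, v⁆ = y * ⁅x, v⁆ * y⁻¹ * ⁅y, v⁆ := by
  calc x * ⁅y, v⁆ * x⁻¹ * ⁅x, v⁆ = (x * y) * v * (x * y)⁻¹ * v⁻¹ := by
        simp only [commutatorElement_def]; group
    _ = (y * x) * v * (y * x)⁻¹ * v⁻¹ := by rw [h.ab hx hy]
    _ = _ := by simp only [commutatorElement_def]; group

/-- The elements of `A ∩ O` centralizing the displacement subgroup displace `v` into the fixed part. -/
theorem phi_mem_c1 (h : Sit p P O C Z A) {y v : G} (hy : y ∈ A ⊓ O) (hv : v ∈ C)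
    (hc : ∀ m ∈ M0 O Z A v, m * y = y * m) : ⁅y, v⁆ ∈ C1 O Z A := by
  refine ⟨h.phiZ hy.2 hv, fun x hx => ?_⟩
  have e := h.phi_sym (v := v) hx.1 hy.1
  have e2 : y * ⁅x, v⁆ * y⁻¹ = ⁅x, v⁆ := by rw [← hc _ (phi_mem_m0 hx), mul_inv_cancel_right]
  rw [e2, h.zAb _ (h.phiZ hx.2 hv) _ (h.phiZ hy.2 hv)] at e
  exact mul_inv_eq_iff_eq_mul.1 (mul_right_cancel e)

/-- The index of the centralizer of the displacement subgroup. -/
theorem m0_index (h : Sit p P O C Z A) {v : G} (hv : v ∈ C) :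
    Nat.card ↥(A ⊓ O) * Nat.card ↥(C1 O Z A) ≤
      Nat.card ↥(A ⊓ O ⊓ Subgroup.centralizer (M0 O Z A v : Set G)) * Nat.card ↥(M0 O Z A v) := by
  set A2 := A ⊓ O ⊓ Subgroup.centralizer (M0 O Z A v : Set G)
  set M := M0 O Z A v
  have hMZ : M ≤ Z := h.m0_le hv
  let g : ↥(A ⊓ O) ⧸ A2.subgroupOf (A ⊓ O) → M ⧸ (C1 O Z A).subgroupOf M :=
    fun q => QuotientGroup.mk ⟨_, phi_mem_m0 (v := v) (q.out).2⟩
  have hg : Function.Injective g := by
    intro q r hqr
    set y := q.out with hy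
    set z := r.out with hz
    have h1 : ⁅(y : G), v⁆⁻¹ * ⁅(z : G), v⁆ ∈ C1 O Z A := Subgroup.mem_subgroupOf.1 (QuotientGroup.eq.1 hqr)
    rw [← q.out_eq', ← r.out_eq']
    refine QuotientGroup.eq.2 (Subgroup.mem_subgroupOf.2 ?_)
    set w := (y : G)⁻¹ * (z : G) with hw
    have hwA : w ∈ A ⊓ O := mul_mem (inv_mem y.2) z.2
    refine ⟨hwA, fun m hm => Subgroup.mem_centralizer_singleton_iff.1 ((?_ : M ≤ Subgroup.centralizer {w}) hm)⟩
    refine sup_le ?_ (fun c hc => Subgroup.mem_centralizer_singleton_iff.2 (hc.2 w hwA).symm)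
    rw [Subgroup.closure_le]
    rintro _ ⟨a, ha, x, hx, rfl⟩
    rw [SetLike.mem_coe, Subgroup.mem_centralizer_singleton_iff]
    set c := ⁅(y : G), v⁆⁻¹ * ⁅(z : G), v⁆
    set fy := ⁅(y : G), v⁆
    set fx := ⁅x, v⁆
    have hfx : fx ∈ Z := h.phiZ hx.2 hv
    have hfy : fy ∈ Z := h.phiZ y.2.2 hv
    have hfz : ⁅(z : G), v⁆ = fy * c := (mul_inv_cancel_left _ _).symm
    have e1 := h.phi_sym (v := v) hx.1 y.2.1
    have e2 := h.phi_sym (v := v) hx.1 z.2.1
    rw [hfz] at e2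
    have e3 : x * (fy * c) * x⁻¹ * fx = x * fy * x⁻¹ * fx * c := by
      calc x * (fy * c) * x⁻¹ * fx = x * fy * x⁻¹ * (x * c * x⁻¹) * fx := by group
        _ = x * fy * x⁻¹ * (c * fx) := by
          rw [h.c1_fix hx.1 hx.2 h1, mul_inv_cancel_right, mul_assoc]
        _ = _ := by rw [h.zAb c h1.1 fx hfx, ← mul_assoc]
    rw [e3, e1, mul_assoc _ fy c] at e2
    have e4 := mul_right_cancel e2
    have hfxw : fx * w = w * fx := by
      calc fx * w = (y : G)⁻¹ * ((y : G) * fx * (y : G)⁻¹) * (z : G) := by rw [hw]; group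
        _ = (y : G)⁻¹ * ((z : G) * fx * (z : G)⁻¹) * (z : G) := by rw [e4]
        _ = _ := by rw [hw]; group
    have haw : Commute a w := h.ab ha hwA.1
    exact ((haw.mul_left (show Commute fx w from hfxw)).mul_left haw.inv_left).eq
  have h1 := Nat.card_le_card_of_injective g hg
  rw [← card_quotient_mul (show A2 ≤ A ⊓ O from inf_le_left),
    ← card_quotient_mul (show C1 O Z A ≤ M from le_sup_right)]
  calc Nat.card (↥(A ⊓ O) ⧸ A2.subgroupOf (A ⊓ O)) * Nat.card A2 * Nat.card ↥(C1 O Z A)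
      ≤ Nat.card (M ⧸ (C1 O Z A).subgroupOf M) * Nat.card A2 * Nat.card ↥(C1 O Z A) :=
        Nat.mul_le_mul_right _ (Nat.mul_le_mul_right _ h1)
    _ = _ := by ring

/-- Four operators map the class-two subgroup into its centre. -/
theorem c_degree (h : Sit p P O C Z A) (hp : p ≠ 2) {u a b c d : G} (hu : u ∈ C) (ha : a ∈ A) (hb : b ∈ A)
    (hc : c ∈ A) (hd : d ∈ A) : ⁅a, ⁅b, ⁅c, ⁅d, u⁆⁆⁆⁆ ∈ Z := by
  classical
  obtain ⟨L0, hL0⟩ := exists_len h.pGroup
  have hex : ∃ L, ∀ l : List G, (∀ y ∈ l, y ∈ A) → l.length = L → ∀ u ∈ C, ad l u ∈ Z :=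
    ⟨L0, fun l hl e u hu => by
      rw [hL0 l (fun y hy => h.mem.1 (hl y hy)) e.ge u (h.cP hu)]
      exact Z.one_mem⟩
  set L := Nat.find hex with hLdef
  have hL : ∀ l : List G, (∀ y ∈ l, y ∈ A) → l.length = L → ∀ u ∈ C, ad l u ∈ Z := Nat.find_spec hex
  by_cases hsmall : L ≤ 4
  · have h1 : ad [a, b, c, d] u ∈ Z := by
      rw [← List.take_append_drop (4 - L) [a, b, c, d], ad_append]
      refine h.ad_mem_Z (hL _ (fun y hy => ?_) (by simp; omega) u hu) _
      have := List.mem_of_mem_drop hy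
      simp only [List.mem_cons, List.not_mem_nil, or_false] at this
      rcases this with rfl | rfl | rfl | rfl <;> assumption
    simpa using h1
  push Not at hsmall
  exfalso
  -- a witness
  obtain ⟨l, hl, hlen, v, hv, hne⟩ : ∃ l : List G, (∀ y ∈ l, y ∈ A) ∧ l.length = L - 1 ∧
      ∃ v ∈ C, ad l v ∉ Z := by
    have := Nat.find_min hex (m := L - 1) (by omega)
    push Not at this
    exact this
  obtain ⟨b', a', l0, rfl⟩ : ∃ b' a' l0, l = b' :: a' :: l0 := by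
    match l, hlen with
    | [], h0 => simp at h0; omega
    | [_], h0 => simp at h0; omega
    | b' :: a' :: l0, _ => exact ⟨b', a', l0, rfl⟩
  have hlen0 : l0.length = L - 3 := by simp at hlen; omega
  have hl0 : ∀ y ∈ l0, y ∈ A := fun y hy => hl y (by simp [hy])
  have ha' : a' ∈ A := hl a' (by simp)
  have hb' : b' ∈ A := hl b' (by simp)
  set e := ad l0 v with hedef
  have hel : e ∈ Lv C Z A (L - 3) := ad_mem_Lv hl0 hlen0 hv
  have heC : e ∈ C := h.ad_mem_C hv l0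
  set Me := com A e with hMedef
  have hMeC : Me ≤ C := com_le fun a _ => h.psiC a heC
  have hMeLv : Me ≤ Lv C Z A (L - 2) := com_le fun a ha => by
    have := h.psi_lv ha hel
    rwa [show L - 3 + 1 = L - 2 by omega] at this
  have hne' : ⁅b', ⁅a', e⁆⁆ ∉ Z := hne
  -- `Me` is abelian and centralized by `e`
  have hMeab : IsAb Me := fun x hx y hy => by
    rw [← commutatorElement_eq_one_iff_mul_comm]
    exact h.pair_eq_one hL (by omega) (hMeLv hx) (hMeLv hy)
  have hMee : ∀ m ∈ Me, m * e = e * m := by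
    have hgen : ∀ a ∈ A, ⁅⁅a, e⁆, e⁆ = 1 := by
      intro a ha
      rcases Nat.lt_or_ge 5 L with h6 | h5
      · exact h.pair_eq_one hL (by omega) (hMeLv (mem_com ha)) hel
      have hL5 : L = 5 := by omega
      rw [hL5] at hL hlen0
      obtain ⟨c1, c2, rfl⟩ : ∃ c1 c2, l0 = [c1, c2] := List.length_eq_two.1 hlen0
      have hc1 : c1 ∈ A := hl0 c1 (by simp)
      have hc2 : c2 ∈ A := hl0 c2 (by simp)
      have h0 : v ∈ Lv C Z A 0 := ad_mem_Lv (l := []) (by simp) rfl hv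
      have v1 := h.psi_lv hc2 h0
      have v2 := h.psi_lv hc1 v1
      have v3 := h.psi_lv ha v2
      have v4 := h.psi_lv hc1 v3
      have v5 := h.psi_lv hc2 v4
      obtain ⟨g22, -, -⟩ := h.four_mem hp hL hv hc1 hc2 hc1 hc2
      obtain ⟨-, g13, -⟩ := h.four_mem hp hL hv ha hc2 hc1 hc2
      obtain ⟨-, -, g04⟩ := h.four_mem hp hL hv ha hc1 hc1 hc2
      show ⁅⁅a, ⁅c1, ⁅c2, v⁆⁆⁆, ⁅c1, ⁅c2, v⁆⁆⁆ = 1
      rw [h.transport_eq ha (h.lv_le_C _ v2) (h.lv_le_C _ v2) g22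
          (h.pair_eq_one hL (by omega) v3 v3),
        h.transport_eq hc1 (h.lv_le_C _ v1) (h.lv_le_C _ v3) g13
          (h.pair_eq_one hL (by omega) v2 v4),
        h.transport_eq hc2 hv (h.lv_le_C _ v4) g04 (h.pair_eq_one hL (by omega) v1 v5),
        h.f_z_right hv (h.lv_top_le hL v5)]
      group
    intro m hm
    have : Me ≤ Subgroup.centralizer {e} := com_le fun a ha =>
      Subgroup.mem_centralizer_singleton_iff.2 (commutatorElement_eq_one_iff_mul_comm.1 (hgen a ha))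
    exact Subgroup.mem_centralizer_singleton_iff.1 (this hm)
  have hkill : ∀ y ∈ A, y ∈ O → (∀ a ∈ A, ∀ b ∈ A, ⁅a, ⁅b, ⁅y, v⁆⁆⁆ = 1) →
      y * e = e * y ∧ ∀ m ∈ Me, y * m = m * y := by
    intro y hy hyO hq
    refine ⟨h.kill hy hyO hv hq hl0 (by omega), fun m hm => ?_⟩
    have : Me ≤ Subgroup.centralizer {y} := com_le fun a ha => by
      rw [Subgroup.mem_centralizer_singleton_iff, hedef, ← ad_cons]
      exact (h.kill hy hyO hv hq (by
        rintro x (_ | ⟨_, hx⟩)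
        exacts [ha, hl0 x hx]) (by simp; omega)).symm
    exact (Subgroup.mem_centralizer_singleton_iff.1 (this hm)).symm
  have hMeA : ¬ Me ≤ A := fun hle => hne' (by
    rw [commutatorElement_eq_one_iff_mul_comm.2 (h.ab hb' (hle (mem_com ha')))]
    exact Z.one_mem)
  have htMe : Tight A Me := tight_com h.mem hMeab
  have hcMe : cA A Me ≤ O := h.cA_le hMeC htMe (fun y hy hyC m hm =>
    (hkill y hy (h.cLe hyC) fun a ha b hb => h.c1_two ha hb (h.f_mem_C1 hyC hv)).2 m hm) hMeA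
  set Mv := M0 O Z A v with hMvdef
  have hMvZ : Mv ≤ Z := h.m0_le hv
  by_cases hsat : Nat.card A * Nat.card ↥(C1 O Z A ⊓ A) ≤ Nat.card ↥(C1 O Z A) * Nat.card ↥(A ⊓ O)
  · -- the fixed part is as large as possible
    set A2 := A ⊓ O ⊓ Subgroup.centralizer (Mv : Set G)
    set E := Subgroup.closure ({e} ∪ ((Me : Set G) ∪ (Mv : Set G))) with hE
    have hEab : IsAb E := isAb_closure (by
      rintro x (rfl | hx | hx) y (rfl | hy | hy)
      · rfl
      · exact (hMee y hy).symm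
      · exact (h.zCen y (hMvZ hy) _ heC).symm
      · exact hMee x hx
      · exact hMeab x hx y hy
      · exact (h.zCen y (hMvZ hy) x (hMeC hx)).symm
      · exact h.zCen x (hMvZ hx) _ heC
      · exact h.zCen x (hMvZ hx) y (hMeC hy)
      · exact h.zAb x (hMvZ hx) y (hMvZ hy))
    have hEC : E ≤ C := by
      rw [hE, Subgroup.closure_le]
      rintro x (rfl | hx | hx)
      exacts [heC, hMeC hx, h.zLe (hMvZ hx)]
    have hMvE : Mv ≤ E := fun x hx => Subgroup.subset_closure (Or.inr (Or.inr hx))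
    have hA2E : ∀ y ∈ A2, ∀ x ∈ E, y * x = x * y := by
      intro y hy x hx
      obtain ⟨k1, k2⟩ := hkill y hy.1.1 hy.1.2 fun a ha b hb => h.c1_two ha hb
        (h.phi_mem_c1 hy.1 hv fun m hm => hy.2 m hm)
      have : E ≤ Subgroup.centralizer {y} := by
        rw [hE, Subgroup.closure_le]
        rintro x (rfl | hx | hx) <;> rw [SetLike.mem_coe, Subgroup.mem_centralizer_singleton_iff]
        exacts [k1.symm, (k2 x hx).symm, hy.2 x hx]
      exact (Subgroup.mem_centralizer_singleton_iff.1 (this hx)).symm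
    have hbound : Nat.card E * Nat.card A2 ≤ Nat.card A * Nat.card ↥(E ⊓ A) :=
      card_mul_le h.mem hEab (hEC.trans h.cP) (inf_le_left.trans inf_le_left) hA2E
    have hidx := h.m0_index hv
    have hint : Nat.card ↥(Mv ⊓ (E ⊓ A)) ≤ Nat.card ↥(C1 O Z A ⊓ A) := Subgroup.card_le_of_le fun x hx =>
      ⟨⟨hMvZ hx.1, fun w hw => h.ab hw.1 hx.2.2⟩, hx.2.2⟩
    have hsup : Mv ⊔ (E ⊓ A) = E := by
      refine sup_eq_of_card_le hMvE inf_le_left hint ?_
      refine Nat.le_of_mul_le_mul_right (c := Nat.card A2) ?_ Nat.card_pos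
      calc Nat.card E * Nat.card ↥(C1 O Z A ⊓ A) * Nat.card A2
          = Nat.card E * Nat.card A2 * Nat.card ↥(C1 O Z A ⊓ A) := by ring
        _ ≤ Nat.card A * Nat.card ↥(E ⊓ A) * Nat.card ↥(C1 O Z A ⊓ A) := Nat.mul_le_mul_right _ hbound
        _ = Nat.card A * Nat.card ↥(C1 O Z A ⊓ A) * Nat.card ↥(E ⊓ A) := by ring
        _ ≤ Nat.card ↥(C1 O Z A) * Nat.card ↥(A ⊓ O) * Nat.card ↥(E ⊓ A) := Nat.mul_le_mul_right _ hsat
        _ = Nat.card ↥(A ⊓ O) * Nat.card ↥(C1 O Z A) * Nat.card ↥(E ⊓ A) := by ring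
        _ ≤ Nat.card A2 * Nat.card Mv * Nat.card ↥(E ⊓ A) := Nat.mul_le_mul_right _ hidx
        _ = _ := by ring
    have hmE : ⁅a', e⁆ ∈ Mv ⊔ (E ⊓ A) := by
      rw [hsup]
      exact Subgroup.subset_closure (Or.inr (Or.inl (mem_com ha')))
    obtain ⟨z, hz, k, hk, hzk⟩ := exists_mul_of_mem_sup hEab hMvE inf_le_left hmE
    refine hne' ?_
    rw [hzk, show ⁅b', z * k⁆ = ⁅b', z⁆ * (z * ⁅b', k⁆ * z⁻¹) by simp only [commutatorElement_def]; group,
      commutatorElement_eq_one_iff_mul_comm.2 (h.ab hb' hk.2), mul_one, mul_inv_cancel, mul_one]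
    exact h.psiZ _ (hMvZ hz)
  -- otherwise two operators kill whatever is sent into the fixed part
  have hunsat : ∀ q ∈ Z, (∀ a ∈ A, ⁅a, q⁆ ∈ C1 O Z A) → ∀ a ∈ A, ∀ b ∈ A, ⁅a, ⁅b, q⁆⁆ = 1 := by
    intro q hq hq1
    suffices hMA : com A q ≤ A from fun a ha b hb =>
      commutatorElement_eq_one_iff_mul_comm.2 (h.ab ha (hMA (mem_com hb)))
    by_contra hnA
    have hMZ := h.com_le_Z hq
    have hMC1 : com A q ≤ C1 O Z A := com_le hq1
    have ht : Tight A (com A q) := tight_com h.mem (h.zAb.mono hMZ)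
    have hcard : Nat.card (cA A (com A q)) ≤ Nat.card ↥(A ⊓ O) :=
      Subgroup.card_le_of_le (le_inf inf_le_left (h.cA_le_of_le_Z hMZ ht hnA))
    apply hsat
    refine Nat.le_of_mul_le_mul_right (c := Nat.card ↥(com A q ⊓ A)) ?_ Nat.card_pos
    calc Nat.card A * Nat.card ↥(C1 O Z A ⊓ A) * Nat.card ↥(com A q ⊓ A)
        = Nat.card A * Nat.card ↥(com A q ⊓ A) * Nat.card ↥(C1 O Z A ⊓ A) := by ring
      _ ≤ Nat.card (com A q) * Nat.card ↥(A ⊓ O) * Nat.card ↥(C1 O Z A ⊓ A) :=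
        Nat.mul_le_mul_right _ (ht.2.trans (Nat.mul_le_mul_left _ hcard))
      _ = Nat.card (com A q) * Nat.card ↥(C1 O Z A ⊓ A) * Nat.card ↥(A ⊓ O) := by ring
      _ ≤ Nat.card ↥(C1 O Z A) * Nat.card ↥(com A q ⊓ A) * Nat.card ↥(A ⊓ O) := by
        refine Nat.mul_le_mul_right _ ((Products.card_mul_card_le _ _).trans (Nat.mul_le_mul ?_ ?_))
        · exact Subgroup.card_le_of_le (sup_le hMC1 inf_le_left)
        · exact Subgroup.card_le_of_le (le_inf inf_le_left (inf_le_right.trans inf_le_right))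
      _ = _ := by ring
  -- a tight subgroup containing `Me` and the commutators of the displacements
  obtain ⟨F, hFt, hMeF, hFle, hF⟩ : ∃ F, Tight A F ∧ Me ≤ F ∧ F ≤ Me ⊔ Z ∧ ∀ m ∈ Mv, com A m ≤ F := by
    cases nonempty_fintype G
    suffices H : ∀ s : Finset G, (∀ m ∈ s, m ∈ Mv) →
        ∃ F, Tight A F ∧ Me ≤ F ∧ F ≤ Me ⊔ Z ∧ ∀ m ∈ s, com A m ≤ F by
      obtain ⟨F, h1, h2, h3, h4⟩ := H (Finset.univ.filter (· ∈ Mv)) (by simp)
      exact ⟨F, h1, h2, h3, fun m hm => h4 m (by simpa using hm)⟩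
    intro s
    induction s using Finset.induction with
    | empty => exact fun _ => ⟨Me, htMe, le_rfl, le_sup_left, by simp⟩
    | insert m s _ ih =>
      intro hs
      obtain ⟨F, h1, h2, h3, h4⟩ := ih fun x hx => hs x (Finset.mem_insert_of_mem hx)
      have hmZ : com A m ≤ Z := h.com_le_Z (hMvZ (hs m (Finset.mem_insert_self _ _)))
      have hFC : F ≤ C := h3.trans (sup_le hMeC h.zLe)
      refine ⟨F ⊔ com A m, h1.sup h.mem (tight_com h.mem (h.zAb.mono hmZ)) (hFC.trans h.cP)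
        (hmZ.trans h.zP) (fun x hx y hy => (h.zCen y (hmZ hy) x (hFC hx)).symm), h2.trans le_sup_left,
        sup_le h3 (hmZ.trans le_sup_right), fun x hx => ?_⟩
      rcases Finset.mem_insert.1 hx with rfl | hx
      · exact le_sup_right
      · exact (h4 x hx).trans le_sup_left
  have hFC : F ≤ C := hFle.trans (sup_le hMeC h.zLe)
  set E := Subgroup.closure ({e} ∪ (F : Set G)) with hE
  have heF : ∀ f ∈ F, f * e = e * f := by
    intro f hf
    have : Me ⊔ Z ≤ Subgroup.centralizer {e} :=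
      sup_le (fun m hm => Subgroup.mem_centralizer_singleton_iff.2 (hMee m hm))
        fun z hz => Subgroup.mem_centralizer_singleton_iff.2 (h.zCen z hz e heC)
    exact Subgroup.mem_centralizer_singleton_iff.1 (this (hFle hf))
  have hEab : IsAb E := isAb_closure (by
    rintro x (rfl | hx) y (rfl | hy)
    exacts [rfl, (heF y hy).symm, heF x hx, hFt.1 x hx y hy])
  have hEC : E ≤ C := by
    rw [hE, Subgroup.closure_le]
    rintro x (rfl | hx)
    exacts [heC, hFC hx]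
  have hFE : F ≤ E := fun x hx => Subgroup.subset_closure (Or.inr hx)
  have hKE : ∀ y ∈ cA A F, ∀ x ∈ E, y * x = x * y := by
    intro y hy x hx
    have hyO : y ∈ O := hcMe ⟨hy.1, fun m hm => hy.2 m (hMeF hm)⟩
    have hq : ∀ a ∈ A, ∀ b ∈ A, ⁅a, ⁅b, ⁅y, v⁆⁆⁆ = 1 := by
      refine hunsat _ (h.phiZ hyO hv) fun a ha => ?_
      refine ⟨h.psiZ a (h.phiZ hyO hv), fun w hw => ?_⟩
      rw [← commutatorElement_eq_one_iff_mul_comm, h.psi_comm hw.1 ha (h.phiZ hyO hv)]
      have hsym : ⁅w, ⁅y, v⁆⁆ = ⁅y, ⁅w, v⁆⁆ := by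
        have e1 := h.phi_sym (v := v) hw.1 hy.1
        have h1 : ∀ s t : G, ⁅s, ⁅t, v⁆⁆ * (⁅t, v⁆ * ⁅s, v⁆) = s * ⁅t, v⁆ * s⁻¹ * ⁅s, v⁆ := fun s t => by
          simp only [commutatorElement_def]; group
        rw [← h1, ← h1, h.zAb _ (h.phiZ hyO hv) _ (h.phiZ hw.2 hv)] at e1
        exact mul_right_cancel e1
      rw [hsym, h.psi_comm ha hy.1 (h.phiZ hw.2 hv), commutatorElement_eq_one_iff_mul_comm]
      exact (hy.2 _ (hF _ (phi_mem_m0 hw) (mem_com ha))).symm
    have : E ≤ Subgroup.centralizer {y} := by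
      rw [hE, Subgroup.closure_le]
      rintro x (rfl | hx) <;> rw [SetLike.mem_coe, Subgroup.mem_centralizer_singleton_iff]
      exacts [(hkill y hy.1 hyO hq).1.symm, hy.2 x hx]
    exact (Subgroup.mem_centralizer_singleton_iff.1 (this hx)).symm
  have hbound : Nat.card E * Nat.card (cA A F) ≤ Nat.card A * Nat.card ↥(E ⊓ A) :=
    card_mul_le h.mem hEab (hEC.trans h.cP) inf_le_left hKE
  have hsup : F ⊔ (E ⊓ A) = E := by
    refine sup_eq_of_card_le hFE inf_le_left (Subgroup.card_le_of_le (inf_le_inf_left F inf_le_right)) ?_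
    refine Nat.le_of_mul_le_mul_right (c := Nat.card (cA A F)) ?_ Nat.card_pos
    calc Nat.card E * Nat.card ↥(F ⊓ A) * Nat.card (cA A F)
        = Nat.card E * Nat.card (cA A F) * Nat.card ↥(F ⊓ A) := by ring
      _ ≤ Nat.card A * Nat.card ↥(E ⊓ A) * Nat.card ↥(F ⊓ A) := Nat.mul_le_mul_right _ hbound
      _ = Nat.card A * Nat.card ↥(F ⊓ A) * Nat.card ↥(E ⊓ A) := by ring
      _ ≤ Nat.card F * Nat.card (cA A F) * Nat.card ↥(E ⊓ A) := Nat.mul_le_mul_right _ hFt.2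
      _ = _ := by ring
  have heE : e ∈ F ⊔ (E ⊓ A) := by
    rw [hsup]
    exact Subgroup.subset_closure (Or.inl rfl)
  obtain ⟨f, hf, k, hk, hfk⟩ := exists_mul_of_mem_sup hEab hFE inf_le_left heE
  refine hne' ?_
  have hfLv : f ∈ Lv C Z A (L - 2) := sup_le hMeLv le_sup_right (hFle hf)
  rw [hfk, show ⁅a', f * k⁆ = ⁅a', f⁆ * (f * ⁅a', k⁆ * f⁻¹) by simp only [commutatorElement_def]; group,
    commutatorElement_eq_one_iff_mul_comm.2 (h.ab ha' hk.2), mul_one, mul_inv_cancel, mul_one]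
  have := h.psi_lv hb' (h.psi_lv ha' hfLv)
  rw [show L - 2 + 1 + 1 = L by omega] at this
  exact h.lv_top_le hL this

end Sit

end CfsgLib.ThompsonSeven
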