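import Cfsg.Agent.Lib.ThompsonSeven.Basic

/-!
The commutator pairing on a class-two subgroup, graded by the length of iterated commutators with `A`.
-/

set_option autoImplicit false
set_option linter.unusedSectionVars false

namespace CfsgLib.ThompsonSeven

open CfsgLib
open scoped commutatorElement

variable {G : Type*} [Group G] {p : ℕ} {P O C Z A : Subgroup G}

/-- The elements which are `i` steps down, together with `Z`. -/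
def Lv (C Z A : Subgroup G) (i : ℕ) : Subgroup G :=
  Subgroup.closure {g | ∃ l : List G, (∀ a ∈ l, a ∈ A) ∧ l.length = i ∧ ∃ u ∈ C, ad l u = g} ⊔ Z

/-- The image of the operators on the fixed part of `Z`. -/
def dC1 (O Z A : Subgroup G) : Subgroup G :=
  Subgroup.closure {g | ∃ a ∈ A, ∃ c ∈ C1 O Z A, ⁅a, c⁆ = g}

/-- The classes of values of the pairing. -/
def Cl (O Z A : Subgroup G) : ℕ → Subgroup G
  | 0 => C1 O Z A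
  | 1 => dC1 O Z A
  | _ + 2 => ⊥

theorem ad_mem_Lv {l : List G} (hl : ∀ a ∈ l, a ∈ A) {i : ℕ} (hi : l.length = i) {u : G} (hu : u ∈ C) :
    ad l u ∈ Lv C Z A i :=
  Subgroup.mem_sup_left (Subgroup.subset_closure ⟨l, hl, hi, u, hu, rfl⟩)

namespace Sit

theorem commC (h : Sit p P O C Z A) {u v : G} (hu : u ∈ C) (hv : v ∈ C) : ⁅u, v⁆ ∈ Z := h.phiZ (h.cLe hu) hv

theorem f_mul_left (h : Sit p P O C Z A) {u u' w : G} (hu : u ∈ C) (hu' : u' ∈ C) (hw : w ∈ C) :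
    ⁅u * u', w⁆ = ⁅u, w⁆ * ⁅u', w⁆ := by
  calc ⁅u * u', w⁆ = u * ⁅u', w⁆ * u⁻¹ * ⁅u, w⁆ := by simp only [commutatorElement_def]; group
    _ = ⁅u', w⁆ * ⁅u, w⁆ := by rw [← h.zCen _ (h.commC hu' hw) u hu, mul_inv_cancel_right]
    _ = _ := h.zAb _ (h.commC hu' hw) _ (h.commC hu hw)

theorem f_mul_right (h : Sit p P O C Z A) {u w w' : G} (hu : u ∈ C) (hw : w ∈ C) (hw' : w' ∈ C) :
    ⁅u, w * w'⁆ = ⁅u, w⁆ * ⁅u, w'⁆ :=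
  h.phi_mul (h.cLe hu) hw hw'

theorem f_z_right (h : Sit p P O C Z A) {u z : G} (hu : u ∈ C) (hz : z ∈ Z) : ⁅u, z⁆ = 1 :=
  commutatorElement_eq_one_iff_mul_comm.2 (h.zCen z hz u hu).symm

theorem f_z_left (h : Sit p P O C Z A) {u z : G} (hu : u ∈ C) (hz : z ∈ Z) : ⁅z, u⁆ = 1 :=
  commutatorElement_eq_one_iff_mul_comm.2 (h.zCen z hz u hu)

variable [Fact p.Prime] [Finite G]

theorem f_mem_C1 (h : Sit p P O C Z A) {u v : G} (hu : u ∈ C) (hv : v ∈ C) : ⁅u, v⁆ ∈ C1 O Z A := by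
  refine ⟨h.commC hu hv, fun y hy => ?_⟩
  have e1 : y * u * y⁻¹ = ⁅y, u⁆ * u := by simp [commutatorElement_def, mul_assoc]
  have e2 : y * v * y⁻¹ = ⁅y, v⁆ * v := by simp [commutatorElement_def, mul_assoc]
  have h1 := h.phiZ hy.2 hu
  have h2 := h.phiZ hy.2 hv
  have e : y * ⁅u, v⁆ * y⁻¹ = ⁅y * u * y⁻¹, y * v * y⁻¹⁆ := by simp only [commutatorElement_def]; group
  rw [e1, e2, h.f_mul_left (h.zLe h1) hu (C.mul_mem (h.zLe h2) hv),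
    h.f_z_left (C.mul_mem (h.zLe h2) hv) h1, one_mul, h.f_mul_right hu (h.zLe h2) hv, h.f_z_right hu h2,
    one_mul] at e
  exact mul_inv_eq_iff_eq_mul.1 e

theorem dC1_le_C1 (h : Sit p P O C Z A) : dC1 O Z A ≤ C1 O Z A := by
  rw [dC1, Subgroup.closure_le]
  rintro _ ⟨a, ha, c, hc, rfl⟩
  exact h.c1_psi ha hc

theorem dC1_le_A (h : Sit p P O C Z A) : dC1 O Z A ≤ A := by
  rw [dC1, Subgroup.closure_le]
  rintro _ ⟨a, ha, c, hc, rfl⟩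
  exact h.c1_mem ha hc

theorem cl_anti (h : Sit p P O C Z A) {i j : ℕ} (hij : i ≤ j) : Cl O Z A j ≤ Cl O Z A i := by
  rcases i with _ | _ | i <;> rcases j with _ | _ | j <;> simp only [Cl]
  all_goals first
    | exact le_rfl
    | exact bot_le
    | exact h.dC1_le_C1
    | omega

theorem cl_le (h : Sit p P O C Z A) (k : ℕ) : Cl O Z A k ≤ C1 O Z A := h.cl_anti (Nat.zero_le k)

theorem psi_cl (h : Sit p P O C Z A) {a g : G} (ha : a ∈ A) {k : ℕ} (hg : g ∈ Cl O Z A k) :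
    ⁅a, g⁆ ∈ Cl O Z A (k + 1) := by
  rcases k with _ | _ | k
  · exact Subgroup.subset_closure ⟨a, ha, g, hg, rfl⟩
  · exact Subgroup.mem_bot.2 (commutatorElement_eq_one_iff_mul_comm.2 (h.ab ha (h.dC1_le_A hg)))
  · rw [Subgroup.mem_bot.1 hg, commutatorElement_one_right]
    exact one_mem _

/-- The fundamental identity. -/
theorem pair_id (h : Sit p P O C Z A) {a u w : G} (hu : u ∈ C) (hw : w ∈ C) :
    ⁅⁅a, u⁆, w⁆ = ⁅a, ⁅u, w⁆⁆ * ⁅u, ⁅a, w⁆⁆⁻¹ * ⁅⁅a, u⁆, ⁅a, w⁆⁆⁻¹ := by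
  have hau := h.psiC a hu
  have haw := h.psiC a hw
  set z := ⁅u, w⁆ with hz
  set f11 := ⁅⁅a, u⁆, ⁅a, w⁆⁆
  set f10 := ⁅⁅a, u⁆, w⁆
  set f01 := ⁅u, ⁅a, w⁆⁆
  have hzZ : z ∈ Z := h.commC hu hw
  have h11 : f11 ∈ Z := h.commC hau haw
  have h10 : f10 ∈ Z := h.commC hau hw
  have h01 : f01 ∈ Z := h.commC hu haw
  have e : a * z * a⁻¹ = f11 * f10 * (f01 * z) := by
    calc a * z * a⁻¹ = ⁅⁅a, u⁆ * u, ⁅a, w⁆ * w⁆ := by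
          simp only [hz, commutatorElement_def]; group
      _ = _ := by rw [h.f_mul_left hau hu (C.mul_mem haw hw), h.f_mul_right hau haw hw, h.f_mul_right hu haw hw]
  have e2 : ⁅a, z⁆ = f11 * f10 * f01 := by
    rw [commutatorElement_def, e]; group
  rw [e2, h.zAb _ h11 _ h10]
  calc f10 = f10 * (f11 * f01 * f01⁻¹ * f11⁻¹) := by group
    _ = _ := by group

theorem lv_le_C (h : Sit p P O C Z A) (i : ℕ) : Lv C Z A i ≤ C := by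
  refine sup_le ?_ h.zLe
  rw [Subgroup.closure_le]
  rintro _ ⟨l, -, -, u, hu, rfl⟩
  exact h.ad_mem_C hu l

theorem psi_lv (h : Sit p P O C Z A) {a g : G} (ha : a ∈ A) {i : ℕ} (hg : g ∈ Lv C Z A i) :
    ⁅a, g⁆ ∈ Lv C Z A (i + 1) := by
  set K := Lv C Z A (i + 1)
  have hK : ∀ k ∈ K, ∀ u ∈ C, u * k * u⁻¹ ∈ K := fun k hk u hu => by
    rw [show u * k * u⁻¹ = ⁅u, k⁆ * k by simp [commutatorElement_def, mul_assoc]]
    exact K.mul_mem (Subgroup.mem_sup_right (h.commC hu (h.lv_le_C _ hk))) hk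
  suffices H : g ∈ C ∧ ⁅a, g⁆ ∈ K from H.2
  rw [Lv, ← Subgroup.closure_eq Z, ← Subgroup.closure_union] at hg
  induction hg using Subgroup.closure_induction with
  | mem x hx =>
    rcases hx with ⟨l, hl, hlen, u, hu, rfl⟩ | hx
    · refine ⟨h.ad_mem_C hu l, ?_⟩
      rw [← ad_cons]
      exact ad_mem_Lv (by
        rintro y (_ | ⟨_, hy⟩)
        exacts [ha, hl y hy]) (by simp [hlen]) hu
    · exact ⟨h.zLe hx, Subgroup.mem_sup_right (h.psiZ a hx)⟩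
  | one => exact ⟨C.one_mem, by rw [commutatorElement_one_right]; exact K.one_mem⟩
  | mul x y _ _ ihx ihy =>
    refine ⟨C.mul_mem ihx.1 ihy.1, ?_⟩
    rw [show ⁅a, x * y⁆ = ⁅a, x⁆ * (x * ⁅a, y⁆ * x⁻¹) by simp only [commutatorElement_def]; group]
    exact K.mul_mem ihx.2 (hK _ ihy.2 x ihx.1)
  | inv x _ ih =>
    refine ⟨C.inv_mem ih.1, ?_⟩
    rw [show ⁅a, x⁻¹⁆ = x⁻¹ * ⁅a, x⁆⁻¹ * x⁻¹⁻¹ by simp only [commutatorElement_def]; group]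
    exact hK _ (K.inv_mem ih.2) x⁻¹ (C.inv_mem ih.1)

theorem ad_Lv (h : Sit p P O C Z A) {u : G} {i : ℕ} (hu : u ∈ Lv C Z A i) :
    ∀ l : List G, (∀ a ∈ l, a ∈ A) → ad l u ∈ Lv C Z A (i + l.length)
  | [], _ => hu
  | a :: l, hl => by
    rw [ad_cons, List.length_cons, ← add_assoc]
    exact h.psi_lv (hl a (List.mem_cons_self ..)) (h.ad_Lv hu l fun x hx => hl x (List.mem_cons_of_mem _ hx))

theorem lv_top_le (_h : Sit p P O C Z A) {L : ℕ}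
    (hL : ∀ l : List G, (∀ a ∈ l, a ∈ A) → l.length = L → ∀ u ∈ C, ad l u ∈ Z) : Lv C Z A L ≤ Z := by
  refine sup_le ?_ le_rfl
  rw [Subgroup.closure_le]
  rintro _ ⟨l, hl, hlen, u, hu, rfl⟩
  exact hL l hl hlen u hu

theorem lv_succ_le (h : Sit p P O C Z A) (i : ℕ) : Lv C Z A (i + 1) ≤ Lv C Z A i := by
  refine sup_le ?_ le_sup_right
  rw [Subgroup.closure_le]
  rintro _ ⟨l, hl, hlen, u, hu, rfl⟩
  rcases List.eq_nil_or_concat l with e | ⟨l', a, e⟩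
  · rw [e] at hlen; simp at hlen
  rw [List.concat_eq_append] at e
  rw [e, ad_append]
  exact ad_mem_Lv (fun x hx => hl x (by rw [e]; simp [hx])) (by rw [e] at hlen; simpa using hlen) (h.psiC a hu)

theorem lv_anti (h : Sit p P O C Z A) {i j : ℕ} (hij : i ≤ j) : Lv C Z A j ≤ Lv C Z A i := by
  induction hij with
  | refl => exact le_rfl
  | step _ ih => exact (h.lv_succ_le _).trans ih

/-- The pairing respects the grading. -/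
theorem pair_mem (h : Sit p P O C Z A) {L : ℕ}
    (hL : ∀ l : List G, (∀ a ∈ l, a ∈ A) → l.length = L → ∀ u ∈ C, ad l u ∈ Z) :
    ∀ i j u w, u ∈ Lv C Z A i → w ∈ Lv C Z A j → ⁅u, w⁆ ∈ Cl O Z A (i + j + 1 - L) := by
  have hbig : ∀ j, L ≤ j → ∀ u ∈ C, ∀ w ∈ Lv C Z A j, ⁅u, w⁆ = 1 := fun j hj u hu w hw =>
    h.f_z_right hu (h.lv_top_le hL (h.lv_anti hj hw))
  intro i
  induction i with
  | zero =>
    intro j u w hu hw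
    rcases Nat.lt_or_ge j L with hj | hj
    · rw [show 0 + j + 1 - L = 0 by omega]
      exact h.f_mem_C1 (h.lv_le_C _ hu) (h.lv_le_C _ hw)
    · rw [hbig j hj u (h.lv_le_C _ hu) w hw]
      exact one_mem _
  | succ i ih =>
    intro j
    induction hd : L - j generalizing j with
    | zero =>
      intro u w hu hw
      rw [hbig j (by omega) u (h.lv_le_C _ hu) w hw]
      exact one_mem _
    | succ d ihd =>
      intro u w hu hw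
      set K := Cl O Z A (i + 1 + j + 1 - L)
      have hwC := h.lv_le_C _ hw
      suffices H : u ∈ C ∧ ⁅u, w⁆ ∈ K from H.2
      rw [Lv, ← Subgroup.closure_eq Z, ← Subgroup.closure_union] at hu
      induction hu using Subgroup.closure_induction with
      | mem x hx =>
        rcases hx with ⟨l, hl, hlen, v, hv, rfl⟩ | hx
        · refine ⟨h.ad_mem_C hv l, ?_⟩
          obtain ⟨a, l', rfl⟩ : ∃ a l', l = a :: l' := List.exists_cons_of_length_eq_add_one hlen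
          have hl' : ∀ y ∈ l', y ∈ A := fun y hy => hl y (List.mem_cons_of_mem _ hy)
          have ha : a ∈ A := hl a (List.mem_cons_self ..)
          have hlen' : l'.length = i := by simpa using hlen
          have hu' : ad l' v ∈ Lv C Z A i := ad_mem_Lv hl' hlen' hv
          rw [ad_cons, h.pair_id (h.lv_le_C _ hu') hwC]
          refine K.mul_mem (K.mul_mem ?_ (K.inv_mem ?_)) (K.inv_mem ?_)
          · exact h.cl_anti (by omega) (h.psi_cl ha (ih j _ _ hu' hw))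
          · exact h.cl_anti (by omega) (ih (j + 1) _ _ hu' (h.psi_lv ha hw))
          · exact h.cl_anti (by omega) (ihd (j + 1) (by omega) _ _ (h.psi_lv ha hu') (h.psi_lv ha hw))
        · exact ⟨h.zLe hx, by rw [h.f_z_left hwC hx]; exact K.one_mem⟩
      | one => exact ⟨C.one_mem, by rw [commutatorElement_one_left]; exact K.one_mem⟩
      | mul x y _ _ ihx ihy =>
        exact ⟨C.mul_mem ihx.1 ihy.1, by rw [h.f_mul_left ihx.1 ihy.1 hwC]; exact K.mul_mem ihx.2 ihy.2⟩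
      | inv x _ ihx =>
        refine ⟨C.inv_mem ihx.1, ?_⟩
        have e : ⁅x⁻¹, w⁆ = ⁅x, w⁆⁻¹ := eq_inv_of_mul_eq_one_left (by
          rw [← h.f_mul_left (C.inv_mem ihx.1) ihx.1 hwC, inv_mul_cancel, commutatorElement_one_left])
        rw [e]
        exact K.inv_mem ihx.2

theorem pair_eq_one (h : Sit p P O C Z A) {L : ℕ}
    (hL : ∀ l : List G, (∀ a ∈ l, a ∈ A) → l.length = L → ∀ u ∈ C, ad l u ∈ Z) {i j : ℕ} (hij : L + 1 ≤ i + j)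
    {u w : G} (hu : u ∈ Lv C Z A i) (hw : w ∈ Lv C Z A j) : ⁅u, w⁆ = 1 := by
  have h1 := h.cl_anti (show 2 ≤ i + j + 1 - L by omega) (h.pair_mem hL i j u w hu hw)
  exact Subgroup.mem_bot.1 h1

theorem pair_mem_dC1 (h : Sit p P O C Z A) {L : ℕ}
    (hL : ∀ l : List G, (∀ a ∈ l, a ∈ A) → l.length = L → ∀ u ∈ C, ad l u ∈ Z) {i j : ℕ} (hij : L ≤ i + j)
    {u w : G} (hu : u ∈ Lv C Z A i) (hw : w ∈ Lv C Z A j) : ⁅u, w⁆ ∈ dC1 O Z A :=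
  h.cl_anti (show 1 ≤ i + j + 1 - L by omega) (h.pair_mem hL i j u w hu hw)

/-- The operators commute modulo `Z`. -/
theorem psi_comm_mod (h : Sit p P O C Z A) {a b u : G} (ha : a ∈ A) (hb : b ∈ A) (hu : u ∈ C) :
    ⁅a, ⁅b, u⁆⁆⁻¹ * ⁅b, ⁅a, u⁆⁆ ∈ Z := by
  haveI := h.zNormal
  rw [← QuotientGroup.eq]
  set π := QuotientGroup.mk' Z
  show π ⁅a, ⁅b, u⁆⁆ = π ⁅b, ⁅a, u⁆⁆
  have hau := h.psiC a hu
  have hbu := h.psiC b hu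
  have hc : π (⁅b, u⁆ * ⁅a, u⁆) = π (⁅a, u⁆ * ⁅b, u⁆) := by
    refine QuotientGroup.eq.2 ?_
    have e : (⁅b, u⁆ * ⁅a, u⁆)⁻¹ * (⁅a, u⁆ * ⁅b, u⁆) = ⁅⁅a, u⁆⁻¹, ⁅b, u⁆⁻¹⁆ := by
      generalize ⁅a, u⁆ = x
      generalize ⁅b, u⁆ = y
      simp [commutatorElement_def, mul_assoc]
    rw [e]
    exact h.commC (C.inv_mem hau) (C.inv_mem hbu)
  have e : ∀ a b : G, ⁅a * b, u⁆ = ⁅a, ⁅b, u⁆⁆ * (⁅b, u⁆ * ⁅a, u⁆) := fun a b => by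
    simp only [commutatorElement_def]; group
  have h1 := e a b
  rw [h.ab ha hb, e b a] at h1
  have h2 := congrArg π h1
  rw [map_mul, map_mul π ⁅a, ⁅b, u⁆⁆, hc] at h2
  exact (mul_right_cancel h2).symm

/-- The operators respect congruence modulo `Z`. -/
theorem psi_congr_mod (h : Sit p P O C Z A) (a : G) {u u' : G} (hu : u ∈ C) (e : u⁻¹ * u' ∈ Z) :
    ⁅a, u⁆⁻¹ * ⁅a, u'⁆ ∈ Z := by
  have h1 : ⁅a, u'⁆ = ⁅a, u⁆ * ⁅a, u⁻¹ * u'⁆ := by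
    conv_lhs => rw [← mul_inv_cancel_left u u']
    exact h.psi_mul a hu e
  rw [h1, inv_mul_cancel_left]
  exact h.psiZ a e

theorem f_congr_right (h : Sit p P O C Z A) {v u u' : G} (hv : v ∈ C) (hu : u ∈ C) (e : u⁻¹ * u' ∈ Z) :
    ⁅v, u⁆ = ⁅v, u'⁆ := by
  conv_rhs => rw [← mul_inv_cancel_left u u']
  rw [h.f_mul_right hv hu (h.zLe e), h.f_z_right hv e, mul_one]

/-- A step of transport along the pairing. -/
theorem transport (h : Sit p P O C Z A) {a u w : G} (ha : a ∈ A) (hu : u ∈ C) (hw : w ∈ C)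
    (hlast : ⁅⁅a, u⁆, ⁅a, w⁆⁆ ∈ dC1 O Z A) : ⁅⁅a, u⁆, w⁆ * ⁅u, ⁅a, w⁆⁆ ∈ dC1 O Z A := by
  rw [h.pair_id hu hw]
  have h1 : ⁅a, ⁅u, w⁆⁆ ∈ dC1 O Z A := Subgroup.subset_closure ⟨a, ha, _, h.f_mem_C1 hu hw, rfl⟩
  have h01 : ⁅u, ⁅a, w⁆⁆ ∈ Z := h.commC hu (h.psiC a hw)
  have hz : ⁅⁅a, u⁆, ⁅a, w⁆⁆⁻¹ ∈ Z := Z.inv_mem (h.commC (h.psiC a hu) (h.psiC a hw))
  rw [mul_assoc _ _ ⁅u, ⁅a, w⁆⁆, h.zAb _ hz _ h01, mul_assoc ⁅a, ⁅u, w⁆⁆, inv_mul_cancel_left]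
  exact mul_mem h1 (inv_mem hlast)

/-- An exact step of transport along the pairing. -/
theorem transport_eq (h : Sit p P O C Z A) {a u w : G} (ha : a ∈ A) (hu : u ∈ C) (hw : w ∈ C)
    (huw : ⁅u, w⁆ ∈ dC1 O Z A) (hlast : ⁅⁅a, u⁆, ⁅a, w⁆⁆ = 1) : ⁅⁅a, u⁆, w⁆ = ⁅u, ⁅a, w⁆⁆⁻¹ := by
  rw [h.pair_id hu hw, hlast, inv_one, mul_one, commutatorElement_eq_one_iff_mul_comm.2 (h.ab ha (h.dC1_le_A huw)),
    one_mul]

/-- The values in degree four belong to the image of the operators. -/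
theorem four_mem (h : Sit p P O C Z A) (hp : p ≠ 2)
    (hL : ∀ l : List G, (∀ a ∈ l, a ∈ A) → l.length = 5 → ∀ u ∈ C, ad l u ∈ Z)
    {v a b c d : G} (hv : v ∈ C) (ha : a ∈ A) (hb : b ∈ A) (hc : c ∈ A) (hd : d ∈ A) :
    ⁅⁅a, ⁅b, v⁆⁆, ⁅c, ⁅d, v⁆⁆⁆ ∈ dC1 O Z A ∧ ⁅⁅b, v⁆, ⁅a, ⁅c, ⁅d, v⁆⁆⁆⁆ ∈ dC1 O Z A ∧
      ⁅v, ⁅b, ⁅a, ⁅c, ⁅d, v⁆⁆⁆⁆⁆ ∈ dC1 O Z A := by
  have h0 : ∀ {u}, u ∈ C → u ∈ Lv C Z A 0 := fun hu => ad_mem_Lv (l := []) (by simp) rfl hu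
  -- the common chain
  have chain : ∀ a ∈ A, ∀ b ∈ A, ∀ c ∈ A, ∀ d ∈ A,
      ⁅⁅a, ⁅b, v⁆⁆, ⁅c, ⁅d, v⁆⁆⁆ * ⁅⁅b, v⁆, ⁅a, ⁅c, ⁅d, v⁆⁆⁆⁆ ∈ dC1 O Z A ∧
      ⁅⁅b, v⁆, ⁅a, ⁅c, ⁅d, v⁆⁆⁆⁆ * ⁅v, ⁅b, ⁅a, ⁅c, ⁅d, v⁆⁆⁆⁆⁆ ∈ dC1 O Z A := by
    intro a ha b hb c hc d hd
    have w1 := h.psi_lv hd (h0 hv)
    have w2 := h.psi_lv hc w1
    have w3 := h.psi_lv ha w2
    have w4 := h.psi_lv hb w3
    have u1 := h.psi_lv hb (h0 hv)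
    have u2 := h.psi_lv ha u1
    exact ⟨h.transport ha (h.lv_le_C _ u1) (h.lv_le_C _ w2) (h.pair_mem_dC1 hL (by omega) u2 w3),
      h.transport hb hv (h.lv_le_C _ w3) (h.pair_mem_dC1 hL (by omega) u1 w4)⟩
  have hmod : ∀ {x y q : G}, x ∈ Z → y ∈ Z → q ∈ Z → x * y ∈ dC1 O Z A → y * q ∈ dC1 O Z A →
      x * q⁻¹ ∈ dC1 O Z A := by
    intro x y q hx hy hq h1 h2
    have := mul_mem h1 (inv_mem h2)
    rwa [mul_inv_rev, mul_assoc x, h.zAb y hy _ (Z.mul_mem (Z.inv_mem hq) (Z.inv_mem hy)),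
      mul_assoc q⁻¹, inv_mul_cancel, mul_one] at this
  set Q := ⁅v, ⁅b, ⁅a, ⁅c, ⁅d, v⁆⁆⁆⁆⁆ with hQdef
  set x := ⁅⁅a, ⁅b, v⁆⁆, ⁅c, ⁅d, v⁆⁆⁆ with hxdef
  have hC : ∀ {a u : G}, u ∈ C → ⁅a, u⁆ ∈ C := fun hu => h.psiC _ hu
  have hQ : Q ∈ Z := h.commC hv (hC (hC (hC (hC hv))))
  have hx : x ∈ Z := h.commC (hC (hC hv)) (hC (hC hv))
  have hy : ⁅⁅b, v⁆, ⁅a, ⁅c, ⁅d, v⁆⁆⁆⁆ ∈ Z := h.commC (hC hv) (hC (hC (hC hv)))
  obtain ⟨h1, h2⟩ := chain a ha b hb c hc d hd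
  have h3 : x * Q⁻¹ ∈ dC1 O Z A := hmod hx hy hQ h1 h2
  -- the same for the reversed order
  obtain ⟨k1, k2⟩ := chain c hc d hd a ha b hb
  have hy' : ⁅⁅d, v⁆, ⁅c, ⁅a, ⁅b, v⁆⁆⁆⁆ ∈ Z := h.commC (hC hv) (hC (hC (hC hv)))
  have hx' : ⁅⁅c, ⁅d, v⁆⁆, ⁅a, ⁅b, v⁆⁆⁆ = x⁻¹ := (commutatorElement_inv _ _).symm
  have hQ' : ⁅v, ⁅d, ⁅c, ⁅a, ⁅b, v⁆⁆⁆⁆⁆ = Q := by
    -- reorder modulo `Z`
    have sw : ∀ {a b u : G}, a ∈ A → b ∈ A → u ∈ C → ⁅a, ⁅b, u⁆⁆⁻¹ * ⁅b, ⁅a, u⁆⁆ ∈ Z :=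
      fun ha hb hu => h.psi_comm_mod ha hb hu
    have e1 : ⁅d, ⁅c, ⁅a, ⁅b, v⁆⁆⁆⁆⁻¹ * ⁅d, ⁅a, ⁅c, ⁅b, v⁆⁆⁆⁆ ∈ Z :=
      h.psi_congr_mod d (hC (hC (hC hv))) (sw hc ha (hC hv))
    have e2 : ⁅d, ⁅a, ⁅c, ⁅b, v⁆⁆⁆⁆⁻¹ * ⁅a, ⁅d, ⁅c, ⁅b, v⁆⁆⁆⁆ ∈ Z := sw hd ha (hC (hC hv))
    have e3 : ⁅a, ⁅d, ⁅c, ⁅b, v⁆⁆⁆⁆⁻¹ * ⁅a, ⁅d, ⁅b, ⁅c, v⁆⁆⁆⁆ ∈ Z :=
      h.psi_congr_mod a (hC (hC (hC hv))) (h.psi_congr_mod d (hC (hC hv)) (sw hc hb hv))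
    have e4 : ⁅a, ⁅d, ⁅b, ⁅c, v⁆⁆⁆⁆⁻¹ * ⁅a, ⁅b, ⁅d, ⁅c, v⁆⁆⁆⁆ ∈ Z :=
      h.psi_congr_mod a (hC (hC (hC hv))) (sw hd hb (hC hv))
    have e5 : ⁅a, ⁅b, ⁅d, ⁅c, v⁆⁆⁆⁆⁻¹ * ⁅a, ⁅b, ⁅c, ⁅d, v⁆⁆⁆⁆ ∈ Z :=
      h.psi_congr_mod a (hC (hC (hC hv))) (h.psi_congr_mod b (hC (hC hv)) (sw hd hc hv))
    have e6 : ⁅a, ⁅b, ⁅c, ⁅d, v⁆⁆⁆⁆⁻¹ * ⁅b, ⁅a, ⁅c, ⁅d, v⁆⁆⁆⁆ ∈ Z := sw ha hb (hC (hC hv))
    rw [hQdef, h.f_congr_right hv (hC (hC (hC (hC hv)))) e1, h.f_congr_right hv (hC (hC (hC (hC hv)))) e2,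
      h.f_congr_right hv (hC (hC (hC (hC hv)))) e3, h.f_congr_right hv (hC (hC (hC (hC hv)))) e4,
      h.f_congr_right hv (hC (hC (hC (hC hv)))) e5, h.f_congr_right hv (hC (hC (hC (hC hv)))) e6]
  have h4 : x⁻¹ * Q⁻¹ ∈ dC1 O Z A := by
    have := hmod (h.commC (hC (hC hv)) (hC (hC hv))) hy' (h.commC hv (hC (hC (hC (hC hv))))) k1 k2
    rwa [hQ', hx'] at this
  have h5 : Q ∈ dC1 O Z A := by
    have h6 : Q⁻¹ * Q⁻¹ ∈ dC1 O Z A := by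
      have := mul_mem h3 h4
      rwa [mul_assoc x, ← mul_assoc Q⁻¹, h.zAb _ (Z.inv_mem hQ) _ (Z.inv_mem hx), mul_assoc x⁻¹,
        mul_inv_cancel_left] at this
    obtain ⟨k, hk⟩ := h.pGroup ⟨Q, h.zP hQ⟩
    have hk' : Q ^ p ^ k = 1 := congrArg Subtype.val hk
    obtain ⟨m, hm⟩ : ∃ m, p ^ k = 2 * m + 1 := ((Fact.out : p.Prime).odd_of_ne_two hp).pow
    have h7 : Q * Q ∈ dC1 O Z A := by
      have := inv_mem h6
      simpa using this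
    have e : Q = (Q * Q) ^ (m + 1) := by
      rw [← pow_two, ← pow_mul, show 2 * (m + 1) = p ^ k + 1 by omega, pow_succ, hk', one_mul]
    rw [e]
    exact pow_mem h7 _
  refine ⟨?_, ?_, h5⟩
  · have := mul_mem h3 h5
    simpa using this
  · have := mul_mem h2 (inv_mem h5)
    rwa [mul_assoc, mul_inv_cancel, mul_one] at this

end Sit

end CfsgLib.ThompsonSeven
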