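import Cfsg.Agent.Lib.ZJ.Replacement
import Cfsg.Agent.Lib.Products

/-!
Abelian subgroups which are as large as an abelian subgroup of largest order allows.
-/

set_option autoImplicit false
set_option linter.unusedSectionVars false

namespace CfsgLib.ThompsonSeven

open CfsgLib
open scoped commutatorElement

variable {G : Type*} [Group G]

/-- Elementwise commutativity. -/
def IsAb (F : Subgroup G) : Prop := ∀ x ∈ F, ∀ y ∈ F, x * y = y * x

theorem IsAb.mono {F E : Subgroup G} (h : IsAb F) (hE : E ≤ F) : IsAb E :=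
  fun x hx y hy => h x (hE hx) y (hE hy)

theorem isAb_closure {S : Set G} (h : ∀ x ∈ S, ∀ y ∈ S, x * y = y * x) : IsAb (Subgroup.closure S) :=
  (ZJ.isGood_closure (e := 0) h fun x _ => pow_zero x).1

theorem isAb_sup {F E : Subgroup G} (hF : IsAb F) (hE : IsAb E) (h : ∀ x ∈ F, ∀ y ∈ E, x * y = y * x) :
    IsAb (F ⊔ E) := by
  rw [← Subgroup.closure_eq F, ← Subgroup.closure_eq E, ← Subgroup.closure_union]
  refine isAb_closure ?_
  rintro x (hx | hx) y (hy | hy)
  exacts [hF x hx y hy, h x hx y hy, (h y hy x hx).symm, hE x hx y hy]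

/-- In an abelian group a product of two subgroups is a set of products. -/
theorem exists_mul_of_mem_sup {F K E : Subgroup G} (hF : IsAb F) (hK : K ≤ F) (hE : E ≤ F) {x : G}
    (hx : x ∈ K ⊔ E) : ∃ k ∈ K, ∃ e ∈ E, x = k * e := by
  rw [← Subgroup.closure_eq K, ← Subgroup.closure_eq E, ← Subgroup.closure_union] at hx
  induction hx using Subgroup.closure_induction with
  | mem x hx =>
    rcases hx with hx | hx
    · exact ⟨x, hx, 1, E.one_mem, (mul_one x).symm⟩
    · exact ⟨1, K.one_mem, x, hx, (one_mul x).symm⟩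
  | one => exact ⟨1, K.one_mem, 1, E.one_mem, (mul_one 1).symm⟩
  | mul x y _ _ ihx ihy =>
    obtain ⟨k, hk, e, he, rfl⟩ := ihx
    obtain ⟨k', hk', e', he', rfl⟩ := ihy
    refine ⟨k * k', K.mul_mem hk hk', e * e', E.mul_mem he he', ?_⟩
    rw [mul_assoc, ← mul_assoc e, hF e (hE he) k' (hK hk')]
    group
  | inv x _ ih =>
    obtain ⟨k, hk, e, he, rfl⟩ := ih
    exact ⟨k⁻¹, K.inv_mem hk, e⁻¹, E.inv_mem he, by
      rw [mul_inv_rev, hF _ (F.inv_mem (hE he)) _ (F.inv_mem (hK hk))]⟩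

/-- The subgroup generated by the commutators of `x` with the elements of `A`. -/
def com (A : Subgroup G) (x : G) : Subgroup G := Subgroup.closure {g | ∃ a ∈ A, ⁅a, x⁆ = g}

theorem mem_com {A : Subgroup G} {x a : G} (ha : a ∈ A) : ⁅a, x⁆ ∈ com A x :=
  Subgroup.subset_closure ⟨a, ha, rfl⟩

theorem com_le {A : Subgroup G} {x : G} {M : Subgroup G} (h : ∀ a ∈ A, ⁅a, x⁆ ∈ M) : com A x ≤ M := by
  rw [com, Subgroup.closure_le]
  rintro _ ⟨a, ha, rfl⟩
  exact h a ha

theorem conj_mem_com {A : Subgroup G} {x b m : G} (hb : b ∈ A) (hm : m ∈ com A x) : b * m * b⁻¹ ∈ com A x := by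
  have h : com A x ≤ (com A x).comap (MulAut.conj b).toMonoidHom := com_le fun a ha => by
    show b * ⁅a, x⁆ * b⁻¹ ∈ com A x
    rw [show b * ⁅a, x⁆ * b⁻¹ = ⁅b * a, x⁆ * ⁅b, x⁆⁻¹ by simp only [commutatorElement_def]; group]
    exact mul_mem (mem_com (mul_mem hb ha)) (inv_mem (mem_com hb))
  exact h hm

theorem commutator_mem_com {A : Subgroup G} {x b m : G} (hb : b ∈ A) (hm : m ∈ com A x) : ⁅b, m⁆ ∈ com A x := by
  rw [commutatorElement_def]
  exact mul_mem (conj_mem_com hb hm) (inv_mem hm)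

/-- The centralizer of `F` in `A`. -/
def cA (A F : Subgroup G) : Subgroup G := A ⊓ Subgroup.centralizer (F : Set G)

theorem mem_cA {A F : Subgroup G} {a : G} : a ∈ cA A F ↔ a ∈ A ∧ ∀ f ∈ F, f * a = a * f :=
  Iff.rfl

/-- `F` reaches the bound given by the maximality of `A`. -/
def Tight (A F : Subgroup G) : Prop :=
  IsAb F ∧ Nat.card A * Nat.card ↥(F ⊓ A) ≤ Nat.card F * Nat.card (cA A F)

variable [Finite G] {P A : Subgroup G}

theorem isAb_of_mem (hA : A ∈ ZJ.goodMax 0 P) : IsAb A := hA.2.1.1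

/-- An abelian subgroup is no larger than allowed by a subgroup of `A` centralizing it. -/
theorem card_mul_le (hA : A ∈ ZJ.goodMax 0 P) {F K : Subgroup G} (hF : IsAb F) (hFP : F ≤ P) (hK : K ≤ A)
    (hKF : ∀ k ∈ K, ∀ f ∈ F, k * f = f * k) :
    Nat.card F * Nat.card K ≤ Nat.card A * Nat.card ↥(F ⊓ A) := by
  refine (Products.card_mul_card_le F K).trans (Nat.mul_le_mul ?_ ?_)
  · exact hA.2.2 _ (sup_le hFP (hK.trans hA.1))
      ⟨isAb_sup hF ((isAb_of_mem hA).mono hK) fun x hx y hy => (hKF y hy x hx).symm, fun x _ => pow_zero x⟩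
  · exact Subgroup.card_le_of_le (inf_le_inf_left F hK)

/-- An element of `P` centralizing `A` lies in `A`. -/
theorem mem_of_centralizes (hA : A ∈ ZJ.goodMax 0 P) {x : G} (hx : x ∈ P) (h : ∀ a ∈ A, a * x = x * a) : x ∈ A := by
  have hc : IsAb (Subgroup.zpowers x) := by
    rw [Subgroup.zpowers_eq_closure]
    exact isAb_closure (by rintro a rfl b rfl; rfl)
  have hle := hA.2.2 (A ⊔ Subgroup.zpowers x) (sup_le hA.1 (Subgroup.zpowers_le.2 hx))
    ⟨isAb_sup (isAb_of_mem hA) hc fun a ha y hy => by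
      obtain ⟨n, rfl⟩ := Subgroup.mem_zpowers_iff.1 hy
      exact (Commute.zpow_right (h a ha) n).eq, fun y _ => pow_zero y⟩
  rw [Subgroup.eq_of_le_of_card_ge le_sup_left hle]
  exact Subgroup.mem_sup_right (Subgroup.mem_zpowers x)

/-- Two subgroups generate `E` when their orders say so. -/
theorem sup_eq_of_card_le {E F H : Subgroup G} (hFE : F ≤ E) (hHE : H ≤ E) {m : ℕ}
    (hm : Nat.card ↥(F ⊓ H) ≤ m) (h : Nat.card E * m ≤ Nat.card F * Nat.card H) : F ⊔ H = E := by
  refine Subgroup.eq_of_le_of_card_ge (sup_le hFE hHE) ?_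
  have hm0 : 0 < m := lt_of_lt_of_le Nat.card_pos hm
  refine Nat.le_of_mul_le_mul_right (h.trans ((Products.card_mul_card_le F H).trans ?_)) hm0
  exact Nat.mul_le_mul_left _ hm

/-- The injection behind tightness. -/
theorem index_com (hA : A ∈ ZJ.goodMax 0 P) {x : G} (hab : IsAb (com A x)) :
    ∃ g : A ⧸ (cA A (com A x)).subgroupOf A → com A x ⧸ (com A x ⊓ A).subgroupOf (com A x),
      Function.Injective g ∧ ∀ q, g q = QuotientGroup.mk ⟨⁅((q.out : A) : G), x⁆, mem_com (q.out).2⟩ := by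
  refine ⟨fun q => QuotientGroup.mk ⟨_, mem_com (q.out).2⟩, ?_, fun q => rfl⟩
  intro q r hqr
  set y := q.out with hy
  set z := r.out with hz
  have h1 : ⁅(y : G), x⁆⁻¹ * ⁅(z : G), x⁆ ∈ com A x ⊓ A := Subgroup.mem_subgroupOf.1 (QuotientGroup.eq.1 hqr)
  rw [← q.out_eq', ← r.out_eq']
  refine QuotientGroup.eq.2 (Subgroup.mem_subgroupOf.2 ?_)
  have hyz : (y : G)⁻¹ * (z : G) ∈ A := A.mul_mem (A.inv_mem y.2) z.2
  refine ⟨hyz, ?_⟩
  have : com A x ≤ Subgroup.centralizer {(y : G)⁻¹ * (z : G)} := com_le fun d hd => by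
    rw [Subgroup.mem_centralizer_singleton_iff]
    set c := ⁅(y : G), x⁆⁻¹ * ⁅(z : G), x⁆
    set fy := ⁅(y : G), x⁆
    set fd := ⁅d, x⁆
    have hfz : ⁅(z : G), x⁆ = fy * c := (mul_inv_cancel_left _ _).symm
    have hsym : ∀ w ∈ A, d * ⁅w, x⁆ * d⁻¹ * fd = w * fd * w⁻¹ * ⁅w, x⁆ := fun w hw => by
      calc d * ⁅w, x⁆ * d⁻¹ * fd = (d * w) * x * (d * w)⁻¹ * x⁻¹ := by
            simp only [fd, commutatorElement_def]; group
        _ = (w * d) * x * (w * d)⁻¹ * x⁻¹ := by rw [isAb_of_mem hA d hd w hw]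
        _ = _ := by simp only [fd, commutatorElement_def]; group
    have e1 := hsym y y.2
    have e2 := hsym z z.2
    rw [hfz] at e2
    have hdc : d * c = c * d := isAb_of_mem hA d hd c h1.2
    have e3 : d * (fy * c) * d⁻¹ * fd = d * fy * d⁻¹ * fd * c := by
      have hc1 : c * d⁻¹ = d⁻¹ * c := by
        rw [eq_inv_mul_iff_mul_eq, ← mul_assoc, hdc, mul_inv_cancel_right]
      calc d * (fy * c) * d⁻¹ * fd = d * fy * (c * d⁻¹) * fd := by group
        _ = d * fy * d⁻¹ * (c * fd) := by rw [hc1]; group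
        _ = _ := by rw [hab c h1.1 fd (mem_com hd), ← mul_assoc]
    rw [e3, e1, mul_assoc _ fy c] at e2
    have e4 := mul_right_cancel e2
    calc fd * ((y : G)⁻¹ * (z : G)) = (y : G)⁻¹ * ((y : G) * fd * (y : G)⁻¹) * (z : G) := by group
      _ = (y : G)⁻¹ * ((z : G) * fd * (z : G)⁻¹) * (z : G) := by rw [e4]
      _ = _ := by group
  exact fun m hm => Subgroup.mem_centralizer_singleton_iff.1 (this hm)

theorem card_quotient_mul {H K : Subgroup G} (h : H ≤ K) :
    Nat.card (K ⧸ H.subgroupOf K) * Nat.card H = Nat.card K := by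
  rw [Subgroup.card_eq_card_quotient_mul_card_subgroup (H.subgroupOf K),
    Nat.card_congr (Subgroup.subgroupOfEquivOfLe h).toEquiv]

/-- Abelian commutator subgroups are tight. -/
theorem tight_com (hA : A ∈ ZJ.goodMax 0 P) {x : G} (hab : IsAb (com A x)) : Tight A (com A x) := by
  obtain ⟨g, hg, -⟩ := index_com hA hab
  have h1 := Nat.card_le_card_of_injective g hg
  have h2 := card_quotient_mul (show cA A (com A x) ≤ A from inf_le_left)
  have h3 := card_quotient_mul (show com A x ⊓ A ≤ com A x from inf_le_left)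
  refine ⟨hab, ?_⟩
  rw [← h2, ← h3]
  calc Nat.card (A ⧸ (cA A (com A x)).subgroupOf A) * Nat.card (cA A (com A x)) * Nat.card ↥(com A x ⊓ A)
      ≤ Nat.card (com A x ⧸ (com A x ⊓ A).subgroupOf (com A x)) * Nat.card (cA A (com A x)) *
        Nat.card ↥(com A x ⊓ A) := Nat.mul_le_mul_right _ (Nat.mul_le_mul_right _ h1)
    _ = _ := by ring

/-- Every element of an abelian commutator subgroup is a commutator up to an element of `A`. -/
theorem exists_commutator_mul (hA : A ∈ ZJ.goodMax 0 P) {x : G} (hx : com A x ≤ P) (hab : IsAb (com A x)) {m : G}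
    (hm : m ∈ com A x) : ∃ c ∈ A, ∃ k ∈ A, m = ⁅c, x⁆ * k := by
  classical
  cases nonempty_fintype G
  obtain ⟨g, hg, hgdef⟩ := index_com hA hab
  have h2 := card_quotient_mul (show cA A (com A x) ≤ A from inf_le_left)
  have h3 := card_quotient_mul (show com A x ⊓ A ≤ com A x from inf_le_left)
  have h4 := card_mul_le hA hab hx (show cA A (com A x) ≤ A from inf_le_left)
    (fun k hk f hf => (hk.2 f hf).symm)
  rw [← h2, ← h3] at h4
  have h5 : Nat.card (com A x ⧸ (com A x ⊓ A).subgroupOf (com A x)) ≤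
      Nat.card (A ⧸ (cA A (com A x)).subgroupOf A) := by
    refine Nat.le_of_mul_le_mul_right (c := Nat.card ↥(com A x ⊓ A) * Nat.card (cA A (com A x))) ?_
      (Nat.mul_pos Nat.card_pos Nat.card_pos)
    calc _ = Nat.card (com A x ⧸ (com A x ⊓ A).subgroupOf (com A x)) * Nat.card ↥(com A x ⊓ A) *
          Nat.card (cA A (com A x)) := (mul_assoc _ _ _).symm
      _ ≤ _ := h4
      _ = _ := by ring
  obtain ⟨q, hq⟩ := (hg.bijective_of_nat_card_le h5).2 (QuotientGroup.mk ⟨m, hm⟩)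
  rw [hgdef] at hq
  refine ⟨((q.out : A) : G), (q.out).2, ⁅((q.out : A) : G), x⁆⁻¹ * m, ?_, (mul_inv_cancel_left _ _).symm⟩
  exact (Subgroup.mem_subgroupOf.1 (QuotientGroup.eq.1 hq)).2

/-- The join of two commuting tight subgroups is tight. -/
theorem Tight.sup (hA : A ∈ ZJ.goodMax 0 P) {F1 F2 : Subgroup G} (h1 : Tight A F1) (h2 : Tight A F2)
    (hP1 : F1 ≤ P) (hP2 : F2 ≤ P) (hc : ∀ x ∈ F1, ∀ y ∈ F2, x * y = y * x) : Tight A (F1 ⊔ F2) := by
  set F := F1 ⊔ F2 with hF
  have hab : IsAb F := isAb_sup h1.1 h2.1 hc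
  refine ⟨hab, ?_⟩
  set D := F ⊓ A
  set G1 := F1 ⊔ D
  set G2 := F2 ⊔ D
  set K1 := cA A F1
  set K2 := cA A F2
  have hKeq : Nat.card ↥(K1 ⊓ K2) ≤ Nat.card (cA A F) := Subgroup.card_le_of_le fun k hk => by
    refine ⟨hk.1.1, ?_⟩
    have : F ≤ Subgroup.centralizer {k} := sup_le
      (fun f hf => Subgroup.mem_centralizer_singleton_iff.2 (hk.1.2 f hf))
      (fun f hf => Subgroup.mem_centralizer_singleton_iff.2 (hk.2.2 f hf))
    exact fun f hf => Subgroup.mem_centralizer_singleton_iff.1 (this hf)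
  have hG1F : G1 ≤ F := sup_le le_sup_left inf_le_left
  have hG2F : G2 ≤ F := sup_le le_sup_right inf_le_left
  -- each part
  have hpart : ∀ F' : Subgroup G, F' ≤ F → Tight A F' →
      Nat.card A * Nat.card D ≤ Nat.card ↥(F' ⊔ D) * Nat.card (cA A F') := by
    intro F' hF' ht
    have hmul := (Products.card_mul_card_le F' D).trans
      (Nat.mul_le_mul_left (Nat.card ↥(F' ⊔ D)) (Subgroup.card_le_of_le (G := G) (inf_le_inf_left F' (inf_le_right : D ≤ A))))
    refine Nat.le_of_mul_le_mul_right (c := Nat.card ↥(F' ⊓ A)) ?_ Nat.card_pos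
    calc Nat.card A * Nat.card D * Nat.card ↥(F' ⊓ A) = Nat.card A * Nat.card ↥(F' ⊓ A) * Nat.card D := by ring
      _ ≤ Nat.card F' * Nat.card (cA A F') * Nat.card D := Nat.mul_le_mul_right _ ht.2
      _ = Nat.card F' * Nat.card D * Nat.card (cA A F') := by ring
      _ ≤ Nat.card ↥(F' ⊔ D) * Nat.card ↥(F' ⊓ A) * Nat.card (cA A F') := Nat.mul_le_mul_right _ hmul
      _ = _ := by ring
  have hp1 := hpart F1 le_sup_left h1
  have hp2 := hpart F2 le_sup_right h2
  -- the intersection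
  have hcen : ∀ (F' : Subgroup G) (k : G), k ∈ cA A F' → ∀ g ∈ F' ⊔ D, g * k = k * g := by
    intro F' k hk g hg
    have : F' ⊔ D ≤ Subgroup.centralizer {k} := sup_le
      (fun f hf => Subgroup.mem_centralizer_singleton_iff.2 (hk.2 f hf))
      (fun f hf => Subgroup.mem_centralizer_singleton_iff.2 (isAb_of_mem hA f hf.2 k hk.1))
    exact Subgroup.mem_centralizer_singleton_iff.1 (this hg)
  have h12 : Nat.card ↥(G1 ⊓ G2) * Nat.card ↥(K1 ⊔ K2) ≤ Nat.card A * Nat.card D := by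
    refine (card_mul_le hA (hab.mono (inf_le_left.trans hG1F)) ((inf_le_left.trans hG1F).trans (sup_le hP1 hP2))
      (sup_le inf_le_left inf_le_left) ?_).trans (Nat.mul_le_mul_left _ (Subgroup.card_le_of_le
        (le_inf (inf_le_left.trans (inf_le_left.trans hG1F)) inf_le_right)))
    intro k hk g hg
    have : K1 ⊔ K2 ≤ Subgroup.centralizer {g} := sup_le
      (fun k hk => Subgroup.mem_centralizer_singleton_iff.2 (hcen F1 k hk g hg.1).symm)
      (fun k hk => Subgroup.mem_centralizer_singleton_iff.2 (hcen F2 k hk g hg.2).symm)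
    exact Subgroup.mem_centralizer_singleton_iff.1 (this hk)
  refine Nat.le_of_mul_le_mul_right (c := Nat.card A * Nat.card D) ?_ (Nat.mul_pos Nat.card_pos Nat.card_pos)
  calc Nat.card A * Nat.card D * (Nat.card A * Nat.card D)
      ≤ Nat.card G1 * Nat.card K1 * (Nat.card G2 * Nat.card K2) := Nat.mul_le_mul hp1 hp2
    _ = Nat.card G1 * Nat.card G2 * (Nat.card K1 * Nat.card K2) := by ring
    _ ≤ Nat.card ↥(G1 ⊔ G2) * Nat.card ↥(G1 ⊓ G2) * (Nat.card ↥(K1 ⊔ K2) * Nat.card ↥(K1 ⊓ K2)) :=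
      Nat.mul_le_mul (Products.card_mul_card_le G1 G2) (Products.card_mul_card_le K1 K2)
    _ ≤ Nat.card F * Nat.card ↥(G1 ⊓ G2) * (Nat.card ↥(K1 ⊔ K2) * Nat.card (cA A F)) :=
      Nat.mul_le_mul (Nat.mul_le_mul_right _ (Subgroup.card_le_of_le (sup_le hG1F hG2F)))
        (Nat.mul_le_mul_left _ hKeq)
    _ = Nat.card F * Nat.card (cA A F) * (Nat.card ↥(G1 ⊓ G2) * Nat.card ↥(K1 ⊔ K2)) := by ring
    _ ≤ _ := Nat.mul_le_mul_left _ h12

end CfsgLib.ThompsonSeven
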